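import Cfsg.Agent.Lib.GolayTables.Checked
import Cfsg.Agent.Lib.GolayTables.QuartetData

/-!
# Quartets of a dodecad
-/

set_option autoImplicit false
set_option maxRecDepth 20000

namespace CfsgLib.GolayTables

open Cfsg CfsgLib.Golay
open scoped Pointwise

/-- The codeword numbers of octads meeting the base dodecad in six points. -/
def hexIdx : List ℕ :=
  (List.range 4096).filter fun n =>
    Nat.beq (popc (codeWord n)) 8 && Nat.beq (popc (Nat.land (codeWord n) 11472927)) 6

theorem hexIdx_map : hexIdx.map (fun n => Nat.land (codeWord n) 11472927) = hexMasks := by decide +kernel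

theorem mem_hexMasks {h : ℕ} : h ∈ hexMasks ↔ ∃ n < 4096, popc (codeWord n) = 8 ∧
    popc (Nat.land (codeWord n) 11472927) = 6 ∧ Nat.land (codeWord n) 11472927 = h := by
  rw [← hexIdx_map, List.mem_map]
  constructor
  · rintro ⟨n, hn, rfl⟩
    simp only [hexIdx, List.mem_filter, List.mem_range, Bool.and_eq_true] at hn
    exact ⟨n, hn.1, Nat.eq_of_beq_eq_true hn.2.1, Nat.eq_of_beq_eq_true hn.2.2, rfl⟩
  · rintro ⟨n, hn, h8, h6, rfl⟩
    refine ⟨n, ?_, rfl⟩
    simp only [hexIdx, List.mem_filter, List.mem_range, h8, h6, Bool.and_eq_true]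
    exact ⟨hn, rfl, rfl⟩

theorem encS_inter_base (o : Finset GolayPt) :
    encS (o ∩ baseDodecad) = Nat.land (encS o) 11472927 := by
  rw [encS_inter, baseDodecad, encS_decS (by norm_num)]
  rfl

theorem mem_hexadsOn_base {h : Finset GolayPt} :
    h ∈ hexadsOn baseDodecad ↔ encS h ∈ hexMasks := by
  rw [mem_hexMasks]
  constructor
  · rintro ⟨h6, o, ho, rfl⟩
    obtain ⟨ho1, ho2⟩ := mem_octads.mp ho
    obtain ⟨n, hn, hno⟩ := exists_codeWord ho1
    refine ⟨n, hn, by rw [hno, ho2], ?_, by rw [hno, encS_inter_base]⟩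
    rw [hno, ← encS_inter_base, popc_encS, h6]
  · rintro ⟨n, -, h8, h6, hh⟩
    refine ⟨?_, decS (codeWord n), ?_, encS_injective ?_⟩
    · rw [← popc_encS, ← hh, h6]
    · rw [mem_octads, encS_decS (codeWord_lt n)]
      exact ⟨isCode_codeWord n, h8⟩
    · rw [encS_inter_base, encS_decS (codeWord_lt n), hh]

theorem smul_mem_hexadsOn (g : M24) {d h : Finset GolayPt} (hh : h ∈ hexadsOn d) :
    g • h ∈ hexadsOn (g • d) := by
  obtain ⟨h6, o, ho, rfl⟩ := hh
  refine ⟨?_, g • o, smul_mem_octads g.2 ho, ?_⟩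
  · show ((g : Equiv.Perm GolayPt) • (o ∩ d)).card = 6
    rwa [Finset.card_smul_finset]
  · show (g : Equiv.Perm GolayPt) • o ∩ (g : Equiv.Perm GolayPt) • d = (g : Equiv.Perm GolayPt) • (o ∩ d)
    rw [Finset.smul_finset_inter]

theorem smul_mem_quartets (g : M24) {d : Finset GolayPt} {Q : Finset (Finset GolayPt)} (hQ : Q ∈ quartets d) :
    g • Q ∈ quartets (g • d) := by
  obtain ⟨h4, h3, hh⟩ := hQ
  refine ⟨by rw [Finset.card_smul_finset, h4], fun t ht => ?_, fun t ht u hu htu => ?_⟩
  · obtain ⟨t', ht', rfl⟩ := Finset.mem_smul_finset.mp ht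
    refine ⟨?_, Finset.smul_finset_subset_smul_finset (a := (g : Equiv.Perm GolayPt)) (h3 t' ht').2⟩
    show ((g : Equiv.Perm GolayPt) • t').card = 3
    rw [Finset.card_smul_finset, (h3 t' ht').1]
  · obtain ⟨t', ht', rfl⟩ := Finset.mem_smul_finset.mp ht
    obtain ⟨u', hu', rfl⟩ := Finset.mem_smul_finset.mp hu
    have := smul_mem_hexadsOn g (hh t' ht' u' hu' fun e => htu (e ▸ rfl))
    have e : g • (t' ∪ u') = g • t' ∪ g • u' := Finset.smul_finset_union (a := (g : Equiv.Perm GolayPt))
    rwa [e] at this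

theorem encS_union' (s t : Finset GolayPt) : encS (s ∪ t) = Nat.lor (encS s) (encS t) := by
  refine mask_ext (fun p => ?_) (fun i hi => ?_)
  · show _ = (encS s ||| encS t).testBit _
    simp [Nat.testBit_or, testBit_encS]
  · show _ = (encS s ||| encS t).testBit _
    simp [Nat.testBit_or, testBit_encS_ge _ hi]

theorem baseQuartet_card : baseQuartet.card = 4 := by
  unfold baseQuartet; decide +kernel

theorem quartMasks_checks :
    (quartMasks.all fun m => Nat.beq (popc m) 3 && Nat.beq (Nat.land m 11472927) m &&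
      quartMasks.all fun n => Nat.beq m n || hexMasks.contains (Nat.lor m n)) = true := by decide +kernel

theorem refTriples : decS 8388611 = {bp 0, bp 1, bp 2} ∧ bp 3 ∈ decS 131084 ∧ bp 4 ∈ decS 131084 ∧
    decS 8388611 ∩ decS 131084 = ∅ := by decide +kernel

theorem refTriples_mem : decS 8388611 ∈ baseQuartet ∧ decS 131084 ∈ baseQuartet := by
  constructor <;> (rw [baseQuartet, List.mem_toFinset]; refine List.mem_map_of_mem ?_; decide)

theorem baseQuartet_mem : baseQuartet ∈ quartets baseDodecad := by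
  have h := quartMasks_checks
  simp only [List.all_eq_true, Bool.and_eq_true, Bool.or_eq_true, List.contains_iff_mem] at h
  have hmem : ∀ t ∈ baseQuartet, ∃ m ∈ quartMasks, decS m = t := fun t ht => by
    rw [baseQuartet, List.mem_toFinset] at ht
    exact List.mem_map.mp ht
  refine ⟨baseQuartet_card, fun t ht => ?_, fun t ht u hu htu => mem_hexadsOn_base.mpr ?_⟩
  · obtain ⟨m, hm, rfl⟩ := hmem t ht
    refine ⟨?_, Finset.inter_eq_left.mp (encS_injective ?_)⟩
    · rw [← popc_encS, encS_decS (quartMasks_lt m hm)]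
      exact Nat.eq_of_beq_eq_true (h m hm).1.1
    · rw [encS_inter_base, encS_decS (quartMasks_lt m hm)]
      exact Nat.eq_of_beq_eq_true (h m hm).1.2
  · obtain ⟨m, hm, rfl⟩ := hmem t ht
    obtain ⟨n, hn, rfl⟩ := hmem u hu
    rw [encS_union', encS_decS (quartMasks_lt m hm), encS_decS (quartMasks_lt n hn)]
    exact ((h m hm).2 n hn).resolve_left fun e => htu (Nat.eq_of_beq_eq_true e ▸ rfl)

/-- The six points left over by the two reference triples. -/
def restPts : List GolayPt :=
  ((List.range 24).filter fun i => (11472927 ^^^ (8388611 ||| 131084) : ℕ).testBit i).map fun i : ℕ =>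
    if i < 23 then some ((i : ℕ) : ZMod 23) else none

theorem rest_complete : ∀ p : GolayPt, p ∈ baseDodecad → p ∉ decS 8388611 → p ∉ decS 131084 → p ∈ restPts := by
  unfold baseDodecad; decide +kernel

theorem rest_check :
    (restPts.all fun a => restPts.all fun b => restPts.all fun c =>
      decide (a = b) || decide (a = c) || decide (b = c) ||
        !(hexMasks.contains (Nat.lor 8388611 (encS {a, b, c})) &&
          hexMasks.contains (Nat.lor 131084 (encS {a, b, c}))) ||
        quartMasks.contains (encS {a, b, c})) = true := by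
  decide +kernel

theorem quartet_disjoint {d : Finset GolayPt} {Q : Finset (Finset GolayPt)} (hQ : Q ∈ quartets d)
    {t u : Finset GolayPt} (ht : t ∈ Q) (hu : u ∈ Q) (htu : t ≠ u) : Disjoint t u := by
  rw [Finset.disjoint_iff_inter_eq_empty, ← Finset.card_eq_zero]
  have h := Finset.card_union_add_card_inter t u
  rw [(hQ.2.2 t ht u hu htu).1, (hQ.2.1 t ht).1, (hQ.2.1 u hu).1] at h
  omega

theorem base_quartet_unique {Q : Finset (Finset GolayPt)} (hQ : Q ∈ quartets baseDodecad)
    (ht : decS 8388611 ∈ Q) (hu : decS 131084 ∈ Q) : Q = baseQuartet := by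
  obtain ⟨hbt, hbu⟩ := refTriples_mem
  refine Finset.eq_of_subset_of_card_le (fun v hv => ?_) (by rw [baseQuartet_card, hQ.1])
  by_cases h1 : decS 8388611 = v
  · exact h1 ▸ hbt
  by_cases h2 : decS 131084 = v
  · exact h2 ▸ hbu
  obtain ⟨a, b, c, hab, hac, hbc, rfl⟩ := Finset.card_eq_three.mp (hQ.2.1 v hv).1
  have hr : ∀ p ∈ ({a, b, c} : Finset GolayPt), p ∈ restPts := fun p hp =>
    rest_complete p ((hQ.2.1 _ hv).2 hp)
      (Finset.disjoint_left.mp (quartet_disjoint hQ hv ht (Ne.symm h1)) hp)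
      (Finset.disjoint_left.mp (quartet_disjoint hQ hv hu (Ne.symm h2)) hp)
  have m1 := mem_hexadsOn_base.mp (hQ.2.2 _ ht _ hv h1)
  have m2 := mem_hexadsOn_base.mp (hQ.2.2 _ hu _ hv h2)
  rw [encS_union', encS_decS (by norm_num)] at m1 m2
  have h := rest_check
  simp only [List.all_eq_true, Bool.or_eq_true, Bool.not_eq_true', Bool.and_eq_false_iff, decide_eq_true_eq,
    List.contains_iff_mem] at h
  rcases h a (hr a (by simp)) b (hr b (by simp)) c (hr c (by simp)) with (((e | e) | e) | (e | e)) | e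
  · exact absurd e hab
  · exact absurd e hac
  · exact absurd e hbc
  · exact absurd (List.contains_iff_mem.mpr m1) (Bool.eq_false_iff.mp e)
  · exact absurd (List.contains_iff_mem.mpr m2) (Bool.eq_false_iff.mp e)
  · rw [baseQuartet, List.mem_toFinset, ← decS_encS ({a, b, c} : Finset GolayPt)]
    exact List.mem_map_of_mem e

/-- Two triples forming a hexad are moved to the reference ones. -/
theorem exists_pair_std {d : Finset GolayPt} (hd : d ∈ dodecads) {t u : Finset GolayPt} (ht : t.card = 3)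
    (hu : u.card = 3) (htu : Disjoint t u) (hh : t ∪ u ∈ hexadsOn d) :
    ∃ g : M24, g • baseDodecad = d ∧ g • decS 8388611 = t ∧ g • decS 131084 = u := by
  obtain ⟨et, hb3, hb4, hbd'⟩ := refTriples
  have hbd := Finset.disjoint_iff_inter_eq_empty.mpr hbd'
  obtain ⟨hbt, hbu⟩ := refTriples_mem
  obtain ⟨a, b, c, hab, hac, hbc, rfl⟩ := Finset.card_eq_three.mp ht
  obtain ⟨x, y, z, hxy, hxz, hyz, rfl⟩ := Finset.card_eq_three.mp hu
  have hsub : {a, b, c} ∪ {x, y, z} ⊆ d := by
    obtain ⟨-, o, -, ho⟩ := hh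
    rw [← ho]; exact Finset.inter_subset_right
  simp only [Finset.disjoint_left, Finset.mem_insert, Finset.mem_singleton, forall_eq_or_imp, forall_eq,
    not_or] at htu
  obtain ⟨⟨hax, hay, -⟩, ⟨hbx, hby, -⟩, hcx, hcy, -⟩ := htu
  have hn : [a, b, c, x, y].Nodup := by simp [hab, hac, hbc, hxy, hax, hay, hbx, hby, hcx, hcy]
  obtain ⟨g, hg, hmap, hgd⟩ := exists_std hd [a, b, c, x, y] hn rfl (by
    simp only [List.mem_cons, List.not_mem_nil, or_false]
    rintro p (rfl | rfl | rfl | rfl | rfl) <;> exact hsub (by simp))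
  simp only [basePts, List.take_succ_cons, List.take_zero, List.map_cons, List.map_nil, List.cons.injEq,
    and_true] at hmap
  obtain ⟨e0, e1, e2, e3, e4⟩ := hmap
  have hgt : g • decS 8388611 = ({a, b, c} : Finset GolayPt) := by
    rw [et]
    simp only [bp, basePts, List.getD_cons_zero, List.getD_cons_succ, Finset.smul_finset_insert,
      Finset.smul_finset_singleton, Equiv.Perm.smul_def]
    rw [e0, e1, e2]
  refine ⟨⟨g, hg⟩, hgd, hgt, ?_⟩
  show g • decS 131084 = _
  have hne : decS 8388611 ≠ decS 131084 := by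
    intro e
    rw [e, disjoint_self, Finset.bot_eq_empty] at hbd
    rw [hbd] at hb3
    exact Finset.notMem_empty _ hb3
  have hH : g • (decS 8388611 ∪ decS 131084) ∈ hexadsOn d := by
    have := smul_mem_hexadsOn ⟨g, hg⟩ (baseQuartet_mem.2.2 _ hbt _ hbu hne)
    rw [show (⟨g, hg⟩ : M24) • baseDodecad = d from hgd] at this
    exact this
  have m3 : x ∈ g • decS 131084 := e3 ▸ Finset.smul_mem_smul_finset (a := g) hb3
  have m4 : y ∈ g • decS 131084 := e4 ▸ Finset.smul_mem_smul_finset (a := g) hb4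
  rw [Finset.smul_finset_union, hgt] at hH
  obtain ⟨o, ho, ho'⟩ := hh.2
  obtain ⟨o', hoo, hoo'⟩ := hH.2
  have hsame : o' = o := by
    refine octad_eq_of_five_le hoo ho (le_trans ?_ (Finset.card_le_card
      (s := [a, b, c, x, y].toFinset) ?_))
    · rw [List.toFinset_card_of_nodup hn]; rfl
    · intro p hp
      rw [List.mem_toFinset] at hp
      simp only [List.mem_cons, List.not_mem_nil, or_false] at hp
      refine Finset.mem_inter.mpr ⟨(Finset.mem_inter.mp (?_ : p ∈ o' ∩ d)).1,
        (Finset.mem_inter.mp (?_ : p ∈ o ∩ d)).1⟩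
      · rw [hoo']
        rcases hp with rfl | rfl | rfl | rfl | rfl <;>
          first | exact Finset.mem_union_right _ m3 | exact Finset.mem_union_right _ m4 |
            exact Finset.mem_union_left _ (by simp)
      · rw [ho']
        rcases hp with rfl | rfl | rfl | rfl | rfl <;> simp
  rw [hsame, ho'] at hoo'
  have hd1 : Disjoint ({a, b, c} : Finset GolayPt) (g • decS 131084) := by
    rw [← hgt, Finset.disjoint_iff_inter_eq_empty, ← Finset.smul_finset_inter, hbd', Finset.smul_finset_empty]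
  have hd2 : Disjoint ({a, b, c} : Finset GolayPt) {x, y, z} := by
    rw [Finset.disjoint_iff_inter_eq_empty, ← Finset.card_eq_zero]
    have h6 := hh.1
    have h := Finset.card_union_add_card_inter ({a, b, c} : Finset GolayPt) {x, y, z}
    rw [h6, ht, hu] at h
    omega
  have := congrArg (fun s => s \ ({a, b, c} : Finset GolayPt)) hoo'
  rw [Finset.union_sdiff_cancel_left hd2, Finset.union_sdiff_cancel_left hd1] at this
  exact this.symm

/-- Two triples forming a hexad lie in exactly one quartet. -/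
theorem quartet_of_pair {d : Finset GolayPt} (hd : d ∈ dodecads) {t u : Finset GolayPt} (ht : t.card = 3)
    (hu : u.card = 3) (htu : Disjoint t u) (hh : t ∪ u ∈ hexadsOn d) :
    ∃ g : M24, g • baseDodecad = d ∧ (t ∈ g • baseQuartet ∧ u ∈ g • baseQuartet) ∧
      ∀ Q ∈ quartets d, t ∈ Q → u ∈ Q → Q = g • baseQuartet := by
  obtain ⟨g, hg, rfl, rfl⟩ := exists_pair_std hd ht hu htu hh
  obtain ⟨hbt, hbu⟩ := refTriples_mem
  refine ⟨g, hg, ⟨Finset.smul_mem_smul_finset hbt, Finset.smul_mem_smul_finset hbu⟩, fun Q hQ h1 h2 => ?_⟩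
  subst hg
  have hQ' := smul_mem_quartets g⁻¹ hQ
  rw [inv_smul_smul] at hQ'
  have h1' : decS 8388611 ∈ g⁻¹ • Q := by
    have := Finset.smul_mem_smul_finset (a := g⁻¹) h1
    rwa [inv_smul_smul] at this
  have h2' : decS 131084 ∈ g⁻¹ • Q := by
    have := Finset.smul_mem_smul_finset (a := g⁻¹) h2
    rwa [inv_smul_smul] at this
  rw [← base_quartet_unique hQ' h1' h2', smul_inv_smul]

theorem exists_quartet_std {d : Finset GolayPt} (hd : d ∈ dodecads) {Q : Finset (Finset GolayPt)}
    (hQ : Q ∈ quartets d) : ∃ g : M24, g • baseDodecad = d ∧ g • baseQuartet = Q := by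
  obtain ⟨t, ht, u, hu, htu⟩ := Finset.one_lt_card.mp (show 1 < Q.card by rw [hQ.1]; norm_num)
  obtain ⟨g, hg, -, huniq⟩ := quartet_of_pair hd (hQ.2.1 t ht).1 (hQ.2.1 u hu).1
    (quartet_disjoint hQ ht hu htu) (hQ.2.2 t ht u hu htu)
  exact ⟨g, hg, (huniq Q hQ ht hu).symm⟩

theorem quartets_eq_image (g : M24) : quartets (g • baseDodecad) = (fun X => g • X) '' quartets baseDodecad := by
  ext Q
  constructor
  · intro hQ
    refine ⟨g⁻¹ • Q, ?_, smul_inv_smul g Q⟩
    have := smul_mem_quartets g⁻¹ hQ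
    rwa [inv_smul_smul] at this
  · rintro ⟨X, hX, rfl⟩
    exact smul_mem_quartets g hX

theorem orbit_baseQuartet :
    MulAction.orbit (MulAction.stabilizer M24 baseDodecad) baseQuartet = quartets baseDodecad := by
  ext Q
  constructor
  · rintro ⟨⟨g, hg⟩, rfl⟩
    have := smul_mem_quartets g baseQuartet_mem
    rwa [MulAction.mem_stabilizer_iff.mp hg] at this
  · intro hQ
    obtain ⟨g, hg, hgQ⟩ := exists_quartet_std baseDodecad_mem hQ
    exact ⟨⟨g, hg⟩, hgQ⟩

theorem natCard_dodecadStabilizer {d : Finset GolayPt} (hd : d ∈ dodecads) :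
    Nat.card ↥(MulAction.stabilizer M24 d) = 95040 := by
  rw [Nat.card_congr (subtypeEquiv _).toEquiv, map_subtype_stabilizer_dodecad, natCard_dodStab hd]

theorem natCard_quartetGroup : Nat.card quartetGroup = 432 := by
  rw [tableQ.card]; decide +kernel

theorem ncard_quartets_base : (quartets baseDodecad).ncard = 220 := by
  have h := card_inf_stabilizer (MulAction.stabilizer M24 baseDodecad) baseQuartet
  rw [orbit_baseQuartet, natCard_dodecadStabilizer baseDodecad_mem,
    show Nat.card ↥(MulAction.stabilizer M24 baseDodecad ⊓ MulAction.stabilizer M24 baseQuartet) = 432 from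
      natCard_quartetGroup] at h
  omega

theorem ncard_quartets {d : Finset GolayPt} (hd : d ∈ dodecads) : (quartets d).ncard = 220 := by
  obtain ⟨g, hg, rfl⟩ := exists_smul_baseDodecad_eq hd
  show (quartets ((⟨g, hg⟩ : M24) • baseDodecad)).ncard = 220
  rw [quartets_eq_image, Set.ncard_image_of_injective _ (MulAction.injective _), ncard_quartets_base]

end CfsgLib.GolayTables
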