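import Cfsg.Agent.Lib.GolayTables.Iso
import Cfsg.Agent.Lib.GolayTables.Quartets

/-!
# The reference subgroups carried to any dodecad
-/

set_option autoImplicit false
set_option maxRecDepth 20000

namespace CfsgLib.GolayTables

open Cfsg CfsgLib.Golay
open scoped Pointwise

theorem exists_std_list {d : Finset GolayPt} (hd : d ∈ dodecads) (L : List GolayPt) (hL : L.Nodup)
    (h5 : L.length ≤ 5) (hLd : ∀ p ∈ L, p ∈ d) :
    ∃ g : M24, g • baseDodecad = d ∧
      ((basePts.take 5).take L.length).map (g : Equiv.Perm GolayPt) = L := by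
  obtain ⟨M, hM1, hM2, hM3⟩ := exists_list_subset (n := 5 - L.length) (s := d \ L.toFinset) (by
    have := Finset.le_card_sdiff L.toFinset d
    rw [card_of_mem_dodecads hd, List.toFinset_card_of_nodup hL] at this
    omega)
  obtain ⟨g, hg, hmap, hgd⟩ := exists_std hd (L ++ M)
    (List.nodup_append.mpr ⟨hL, hM1, fun a ha b hb e =>
      (Finset.mem_sdiff.mp (hM3 b hb)).2 (List.mem_toFinset.mpr (e ▸ ha))⟩)
    (by simp [hM2]; omega)
    (fun p hp => (List.mem_append.mp hp).elim (hLd p) fun h => (Finset.mem_sdiff.mp (hM3 p h)).1)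
  refine ⟨⟨g, hg⟩, hgd, ?_⟩
  have := congrArg (List.take L.length) hmap
  rwa [← List.map_take, List.take_left] at this

theorem stab_smul {α : Type*} [MulAction M24 α] {g : M24} {a b : α} (h : g • a = b) :
    (MulAction.stabilizer M24 a).map (MulAut.conj g).toMonoidHom = MulAction.stabilizer M24 b :=
  h ▸ map_conj_stabilizer g a

/-- A conjugate subgroup is isomorphic. -/
noncomputable def conjEquiv {g : M24} {A B : Subgroup M24}
    (h : A.map (MulAut.conj g).toMonoidHom = B) : A ≃* B :=
  (A.equivMapOfInjective _ (MulAut.conj g).injective).trans (MulEquiv.subgroupCongr h)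

theorem conjEquiv_apply {g : M24} {A B : Subgroup M24} (h : A.map (MulAut.conj g).toMonoidHom = B) (a : A) :
    (conjEquiv h a : M24) = g * a * g⁻¹ := rfl

/-! ### Quartet stabilisers -/

theorem exists_quartetGroup_map {d : Finset GolayPt} (hd : d ∈ dodecads) {Q : Finset (Finset GolayPt)}
    (hQ : Q ∈ quartets d) : ∃ g : M24, g • baseDodecad = d ∧ g • baseQuartet = Q ∧
      quartetGroup.map (MulAut.conj g).toMonoidHom = MulAction.stabilizer M24 d ⊓ MulAction.stabilizer M24 Q := by
  obtain ⟨g, h1, h2⟩ := exists_quartet_std hd hQ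
  exact ⟨g, h1, h2, by rw [quartetGroup, map_conj_inf, stab_smul h1, stab_smul h2]⟩

theorem quartet_reach : ((List.range 24).all fun i => !(Nat.testBit 11472927 i) ||
    eltsQ.any fun e => Nat.beq ((unpack e).getD (idx (bp 0)).val 0) i) = true := by decide +kernel

theorem quartetGroup_trans {p : GolayPt} (hp : p ∈ baseDodecad) :
    ∃ g ∈ quartetGroup, (g : Equiv.Perm GolayPt) (bp 0) = p := by
  have h := quartet_reach
  simp only [List.all_eq_true, List.mem_range, Bool.or_eq_true, Bool.not_eq_true', List.any_eq_true] at h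
  rcases h (idx p).val (idx p).isLt with hf | ⟨e, he, hei⟩
  · rw [baseDodecad, mem_decS, hf] at hp
    exact Bool.noConfusion hp
  obtain ⟨k, hk, rfl⟩ := List.getElem_of_mem he
  obtain ⟨g, hg, hgk⟩ := tableQ.sound k hk
  refine ⟨g, hg, idx_injective (Fin.ext ?_)⟩
  rw [← toList_getD, ← Nat.eq_of_beq_eq_true hei]
  show (img g).getD _ 0 = _
  rw [hgk, elt, List.getD_eq_getElem _ _ hk]

/-! ### Three points -/

theorem natCard_threeGroup : Nat.card threeGroup = 72 := by
  rw [tableThree.card]; decide +kernel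

theorem three_reach : ((List.range 24).all fun i => Nat.testBit 11472927 i ||
    eltsThree.any fun e => Nat.beq ((unpack e).getD (idx outA).val 0) i) = true := by decide +kernel

theorem threeGroup_trans {p : GolayPt} (hp : p ∉ baseDodecad) :
    ∃ g ∈ threeGroup, (g : Equiv.Perm GolayPt) outA = p := by
  have h := three_reach
  simp only [List.all_eq_true, List.mem_range, Bool.or_eq_true, List.any_eq_true] at h
  rcases h (idx p).val (idx p).isLt with ht | ⟨e, he, hei⟩
  · exact absurd (mem_decS.mpr ht) hp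
  obtain ⟨k, hk, rfl⟩ := List.getElem_of_mem he
  obtain ⟨g, hg, hgk⟩ := tableThree.sound k hk
  refine ⟨g, hg, idx_injective (Fin.ext ?_)⟩
  rw [← toList_getD, ← Nat.eq_of_beq_eq_true hei]
  show (img g).getD _ 0 = _
  rw [hgk, elt, List.getD_eq_getElem _ _ hk]

theorem exists_threeGroup_map {d : Finset GolayPt} (hd : d ∈ dodecads) {p q r : GolayPt} (hp : p ∈ d)
    (hq : q ∈ d) (hr : r ∈ d) (hpq : p ≠ q) (hpr : p ≠ r) (hqr : q ≠ r) :
    ∃ g : M24, g • baseDodecad = d ∧ threeGroup.map (MulAut.conj g).toMonoidHom =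
      MulAction.stabilizer M24 d ⊓ MulAction.stabilizer M24 p ⊓ MulAction.stabilizer M24 q ⊓
        MulAction.stabilizer M24 r := by
  obtain ⟨g, hgd, hmap⟩ := exists_std_list hd [p, q, r] (by simp [hpq, hpr, hqr]) (by simp)
    (by simp [hp, hq, hr])
  simp only [basePts, List.length_cons, List.length_nil, Nat.reduceAdd, List.take_succ_cons, List.take_zero,
    List.map_cons, List.map_nil, List.cons.injEq, and_true] at hmap
  obtain ⟨e0, e1, e2⟩ := hmap
  have h0 : g • bp 0 = p := e0
  have h1 : g • bp 1 = q := e1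
  have h2 : g • bp 2 = r := e2
  exact ⟨g, hgd, by rw [threeGroup, map_conj_inf, map_conj_inf, map_conj_inf, stab_smul hgd, stab_smul h0,
    stab_smul h1, stab_smul h2]⟩

/-! ### A point inside and one or two outside -/

theorem exists_point_std {d : Finset GolayPt} (hd : d ∈ dodecads) {p : GolayPt} (hp : p ∈ d)
    {L L' : List GolayPt} (hL : L.Nodup) (hL' : L'.Nodup) (hlen : L.length = L'.length) (h3 : L.length ≤ 3)
    (hLd : ∀ r ∈ L, r ∉ baseDodecad) (hLd' : ∀ r ∈ L', r ∉ d) :
    ∃ g : M24, g • baseDodecad = d ∧ g • bp 0 = p ∧ L.map (g : Equiv.Perm GolayPt) = L' := by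
  obtain ⟨g, hgd, hmap⟩ := exists_std_list hd [p] (by simp) (by simp) (by simp [hp])
  simp only [basePts, List.length_cons, List.length_nil, Nat.reduceAdd, List.take_succ_cons, List.take_zero,
    List.map_cons, List.map_nil, List.cons.injEq, and_true] at hmap
  obtain ⟨h, h1, h2, h3'⟩ := exists_outside_map hd hp (L := L.map (g : Equiv.Perm GolayPt)) (L' := L')
    (hL.map (Equiv.injective _)) hL' (by simpa using hlen) (by simpa using h3) (fun r hr => by
      obtain ⟨u, hu, rfl⟩ := List.mem_map.mp hr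
      intro hm
      rw [← hgd] at hm
      exact hLd u hu ((Finset.smul_mem_smul_finset_iff (a := (g : Equiv.Perm GolayPt))).mp hm)) hLd'
  refine ⟨h * g, by rw [mul_smul, hgd, h1], ?_, ?_⟩
  · rw [mul_smul, show g • bp 0 = p from hmap, h2]
  · rw [← h3', List.map_map]
    rfl

theorem exists_pointGroup_map {d : Finset GolayPt} (hd : d ∈ dodecads) {p q : GolayPt} (hp : p ∈ d)
    (hq : q ∉ d) : ∃ g : M24, pointGroup.map (MulAut.conj g).toMonoidHom =
      MulAction.stabilizer M24 d ⊓ MulAction.stabilizer M24 p ⊓ MulAction.stabilizer M24 q := by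
  obtain ⟨g, h1, h2, h3⟩ := exists_point_std hd hp (L := [outA]) (L' := [q]) (by simp) (by simp) rfl (by simp)
    (by simp [dod_facts.2.1]) (by simp [hq])
  simp only [List.map_cons, List.map_nil, List.cons.injEq, and_true] at h3
  have h3' : g • outA = q := h3
  exact ⟨g, by rw [pointGroup, map_conj_inf, map_conj_inf, stab_smul h1, stab_smul h2, stab_smul h3']⟩

theorem exists_duoGroup_map {d : Finset GolayPt} (hd : d ∈ dodecads) {p q q' : GolayPt} (hp : p ∈ d)
    (hq : q ∉ d) (hq' : q' ∉ d) (hne : q ≠ q') : ∃ g : M24, duoGroup.map (MulAut.conj g).toMonoidHom =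
      MulAction.stabilizer M24 d ⊓ MulAction.stabilizer M24 p ⊓
        MulAction.stabilizer M24 ({q, q'} : Finset GolayPt) := by
  obtain ⟨-, hA, hB, hAB, -⟩ := dod_facts
  obtain ⟨g, h1, h2, h3⟩ := exists_point_std hd hp (L := [outA, outB]) (L' := [q, q']) (by simp [hAB])
    (by simp [hne]) rfl (by simp) (by simp [hA, hB]) (by simp [hq, hq'])
  simp only [List.map_cons, List.map_nil, List.cons.injEq, and_true] at h3
  have h3' : g • ({outA, outB} : Finset GolayPt) = {q, q'} := by
    show (g : Equiv.Perm GolayPt) • ({outA, outB} : Finset GolayPt) = {q, q'}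
    rw [Finset.smul_finset_insert, Finset.smul_finset_singleton, Equiv.Perm.smul_def, Equiv.Perm.smul_def,
      h3.1, h3.2]
  exact ⟨g, by rw [duoGroup, map_conj_inf, map_conj_inf, stab_smul h1, stab_smul h2, stab_smul h3']⟩

/-! ### Involutions -/

theorem exists_invElt_conj {d : Finset GolayPt} (hd : d ∈ dodecads) {p : GolayPt} (hp : p ∈ d) {x : M24}
    (hxd : x • d = d) (hxp : x • p = p) (hxx : x * x = 1) (hx1 : x ≠ 1) :
    ∃ g : M24, g • baseDodecad = d ∧ g • bp 0 = p ∧ x = g * invElt * g⁻¹ := by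
  classical
  have hinv : ∀ r, (x : Equiv.Perm GolayPt) ((x : Equiv.Perm GolayPt) r) = r := fun r =>
    congrArg (fun u : M24 => (u : Equiv.Perm GolayPt) r) hxx
  have hmoved : 3 ≤ (d.filter fun r => (x : Equiv.Perm GolayPt) r ≠ r).card := by
    by_contra hlt
    have hfix : 5 ≤ (d.filter fun r => (x : Equiv.Perm GolayPt) r = r).card := by
      have h := Finset.card_filter_add_card_filter_not (s := d) (fun r => (x : Equiv.Perm GolayPt) r = r)
      rw [card_of_mem_dodecads hd] at h
      simp only [ne_eq] at hlt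
      omega
    obtain ⟨L, hL1, hL2, hL3⟩ := exists_list_subset hfix
    refine hx1 (eq_of_five hd hxd (one_smul _ d) hL1 hL2 (fun r hr => (Finset.mem_filter.mp (hL3 r hr)).1) ?_)
    exact List.map_congr_left fun r hr => (Finset.mem_filter.mp (hL3 r hr)).2
  obtain ⟨a, ha⟩ := Finset.card_pos.mp (show 0 < (d.filter fun r => (x : Equiv.Perm GolayPt) r ≠ r).card by omega)
  rw [Finset.mem_filter] at ha
  obtain ⟨c, hc, hc'⟩ := Finset.exists_mem_notMem_of_card_lt_card
    (s := ({a, (x : Equiv.Perm GolayPt) a} : Finset GolayPt))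
    (t := d.filter fun r => (x : Equiv.Perm GolayPt) r ≠ r)
    (lt_of_le_of_lt Finset.card_le_two (by omega))
  rw [Finset.mem_filter] at hc
  simp only [Finset.mem_insert, Finset.mem_singleton, not_or] at hc'
  set b := (x : Equiv.Perm GolayPt) a with hb
  set e := (x : Equiv.Perm GolayPt) c with he
  have hfix : (x : Equiv.Perm GolayPt) p = p := hxp
  have hne : ∀ r, (x : Equiv.Perm GolayPt) r ≠ r → p ≠ r ∧ p ≠ (x : Equiv.Perm GolayPt) r := fun r hr =>
    ⟨fun h => hr (h ▸ hfix), fun h => by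
      have h' := congrArg (x : Equiv.Perm GolayPt) h
      rw [hfix, hinv] at h'
      subst h'
      exact hr hfix⟩
  have hn : [p, a, b, c, e].Nodup := by
    obtain ⟨n1, n2⟩ := hne a ha.2
    obtain ⟨n3, n4⟩ := hne c hc.2
    have n5 : a ≠ e := fun h => hc'.2 (by rw [hb, h, he, hinv])
    have n6 : b ≠ e := fun h => hc'.1 ((x : Equiv.Perm GolayPt).injective h).symm
    have n2' : p ≠ b := n2
    have n4' : p ≠ e := n4
    simp [n1, n2', n3, n4', n5, n6, Ne.symm ha.2, Ne.symm hc.2, Ne.symm hc'.1, Ne.symm hc'.2]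
  have hmem : ∀ r ∈ [p, a, b, c, e], r ∈ d := by
    simp only [List.mem_cons, List.not_mem_nil, or_false]
    rintro r (rfl | rfl | rfl | rfl | rfl)
    exacts [hp, ha.1, (apply_mem_iff_of_smul_eq (σ := (x : Equiv.Perm GolayPt)) hxd a).mpr ha.1, hc.1,
      (apply_mem_iff_of_smul_eq (σ := (x : Equiv.Perm GolayPt)) hxd c).mpr hc.1]
  obtain ⟨g, hgd, hmap⟩ := exists_std_list hd _ hn le_rfl hmem
  simp only [basePts, List.length_cons, List.length_nil, Nat.reduceAdd, List.take_succ_cons, List.take_zero,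
    List.map_cons, List.map_nil, List.cons.injEq, and_true] at hmap
  obtain ⟨e0, e1, e2, e3, e4⟩ := hmap
  refine ⟨g, hgd, e0, ?_⟩
  obtain ⟨f1, f3, f2, f4⟩ := invFun'_facts
  obtain ⟨i1, i2⟩ := invElt_mem
  have hi0 : invFun' (bp 0) = bp 0 := (invElt_apply _).symm.trans i2
  refine eq_of_five hd hxd ?_ hn rfl hmem ?_
  · have hgi : g⁻¹ • d = baseDodecad := by rw [← hgd, inv_smul_smul]
    rw [mul_smul, mul_smul, hgi, MulAction.mem_stabilizer_iff.mp i1, hgd]
  have hy : ∀ k v, (g : Equiv.Perm GolayPt) (bp k) = v → ((g * invElt * g⁻¹ : M24) : Equiv.Perm GolayPt) v =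
      (g : Equiv.Perm GolayPt) (invFun' (bp k)) := by
    intro k v hv
    subst hv
    simp [invElt_apply]
  simp only [List.map_cons, List.map_nil, hy 0 p e0, hy 1 a e1, hy 2 b e2, hy 3 c e3, hy 4 e e4, hi0, f1, f2,
    f3, f4]
  simp only [show (g : Equiv.Perm GolayPt) (bp 0) = p from e0, show (g : Equiv.Perm GolayPt) (bp 1) = a from e1,
    show (g : Equiv.Perm GolayPt) (bp 2) = b from e2, show (g : Equiv.Perm GolayPt) (bp 3) = c from e3,
    show (g : Equiv.Perm GolayPt) (bp 4) = e from e4, hfix, ← hb, ← he]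
  simp only [hb, he, hinv]

theorem exists_centGroup_map {d : Finset GolayPt} (hd : d ∈ dodecads) {p : GolayPt} (hp : p ∈ d) {x : M24}
    (hxd : x • d = d) (hxp : x • p = p) (hxx : x * x = 1) (hx1 : x ≠ 1) :
    ∃ g : M24, centGroup.map (MulAut.conj g).toMonoidHom =
      MulAction.stabilizer M24 d ⊓ MulAction.stabilizer M24 p ⊓ Subgroup.centralizer {x} := by
  obtain ⟨g, h1, h2, h3⟩ := exists_invElt_conj hd hp hxd hxp hxx hx1
  refine ⟨g, ?_⟩
  have hc : (Subgroup.centralizer {invElt}).map (MulAut.conj g).toMonoidHom = Subgroup.centralizer {x} := by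
    ext u
    rw [Subgroup.mem_map_equiv, MulAut.conj_symm_apply, Subgroup.mem_centralizer_iff,
      Subgroup.mem_centralizer_iff]
    simp only [Set.mem_singleton_iff, forall_eq, h3]
    constructor
    · intro h
      calc g * invElt * g⁻¹ * u = g * (invElt * (g⁻¹ * u * g)) * g⁻¹ := by group
        _ = g * ((g⁻¹ * u * g) * invElt) * g⁻¹ := by rw [h]
        _ = u * (g * invElt * g⁻¹) := by group
    · intro h
      calc invElt * (g⁻¹ * u * g) = g⁻¹ * (g * invElt * g⁻¹ * u) * g := by group
        _ = g⁻¹ * (u * (g * invElt * g⁻¹)) * g := by rw [h]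
        _ = g⁻¹ * u * g * invElt := by group
  rw [centGroup, map_conj_inf, map_conj_inf, stab_smul h1, stab_smul h2, hc]

end CfsgLib.GolayTables
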