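import Cfsg.Agent.Lib.GolayTables.CheckedPoint

/-!
# The five tables
-/

set_option autoImplicit false
set_option Elab.async false
set_option maxRecDepth 20000

namespace CfsgLib.GolayTables

open Cfsg CfsgLib.Golay
open scoped Pointwise

theorem closedQ : closedOK eltsQ gensQ succQ parQ = true :=
  closedOK_of_fast (by decide +kernel)
theorem closedDuo : closedOK eltsDuo gensDuo succDuo parDuo = true :=
  closedOK_of_fast (by decide +kernel)
theorem closedCent : closedOK eltsCent gensCent succCent parCent = true :=
  closedOK_of_fast (by decide +kernel)

theorem tableQ : Table quartetGroup eltsQ :=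
  Table.of_bound (sound_of_closed mem_quartetGroup_of_fix soundQ closedQ) (inj_of_keys keyFive keysQ)
    (natCard_quartetGroup_le.trans (by decide +kernel))

theorem tableThree : Table threeGroup eltsThree :=
  Table.of_bound (sound_of_soundOK mem_threeGroup_of_fix soundThree) (inj_of_keys keyFive keysThree)
    (natCard_threeGroup_le.trans (by decide +kernel))

theorem tablePoint : Table pointGroup eltsPoint :=
  Table.of_bound (sound_of_closed mem_pointGroup_of_fix soundPoint closedPoint) (inj_of_keys keyFive keysPoint)
    (natCard_pointGroup.le.trans (by decide +kernel))

theorem tableDuo : Table duoGroup eltsDuo :=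
  Table.of_bound (sound_of_closed mem_duoGroup_of_fix soundDuo closedDuo) (inj_of_keys keyFive keysDuo)
    (natCard_duoGroup.le.trans (by decide +kernel))

theorem tableCent : Table centGroup eltsCent :=
  Table.of_bound (sound_of_closed mem_centGroup_of_fix soundCent closedCent) (inj_of_keys keyFive keysCent)
    (natCard_centGroup_le.trans (by decide +kernel))

end CfsgLib.GolayTables
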