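import Cfsg.Agent.Lib.GolayTables.Engine

/-!
# A faster form of the closure check, with tables read from packed numbers
-/

set_option autoImplicit false

namespace CfsgLib.GolayTables

open Cfsg CfsgLib.Golay

/-- Concatenate entries of `w` bits. -/
def packW (w : ℕ) : List ℕ → ℕ
  | [] => 0
  | a :: r => Nat.lor a (Nat.shiftLeft (packW w r) w)

/-- Read an entry. -/
def atW (w N k : ℕ) : ℕ := Nat.land (Nat.shiftRight N (Nat.mul w k)) (Nat.sub (Nat.shiftLeft 1 w) 1)

theorem atW_packW (w : ℕ) : ∀ (L : List ℕ) (k : ℕ), (∀ a ∈ L, a < 2 ^ w) → k < L.length →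
    atW w (packW w L) k = L.getD k 0 := by
  intro L
  induction L with
  | nil => intro k _ hk; simp at hk
  | cons a r ih =>
    intro k hL hk
    have ha : a < 2 ^ w := hL a List.mem_cons_self
    apply Nat.eq_of_testBit_eq
    intro i
    have hbit : (atW w (packW w (a :: r)) k).testBit i =
        (decide (i < w) && (packW w (a :: r)).testBit (w * k + i)) := by
      show ((packW w (a :: r) >>> (w * k)) &&& (1 <<< w - 1)).testBit i = _
      rw [Nat.testBit_and, Nat.testBit_shiftRight, Nat.one_shiftLeft, Nat.testBit_two_pow_sub_one, Bool.and_comm]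
    rw [hbit, show packW w (a :: r) = a ||| (packW w r <<< w) from rfl, Nat.testBit_or, Nat.testBit_shiftLeft]
    cases k with
    | zero =>
      rw [List.getD_cons_zero, Nat.mul_zero, Nat.zero_add]
      by_cases hi : i < w
      · simp [hi]
      · have : a.testBit i = false :=
          Nat.testBit_lt_two_pow (ha.trans_le (Nat.pow_le_pow_right (by norm_num) (not_lt.mp hi)))
        simp [hi, this]
    | succ k =>
      have h' := ih k (fun x hx => hL x (List.mem_cons_of_mem _ hx)) (by simpa using hk)
      rw [List.getD_cons_succ, ← h']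
      have hbit' : (atW w (packW w r) k).testBit i = (decide (i < w) && (packW w r).testBit (w * k + i)) := by
        show ((packW w r >>> (w * k)) &&& (1 <<< w - 1)).testBit i = _
        rw [Nat.testBit_and, Nat.testBit_shiftRight, Nat.one_shiftLeft, Nat.testBit_two_pow_sub_one,
          Bool.and_comm]
      have e : w * (k + 1) + i = w + (w * k + i) := by rw [Nat.mul_succ]; omega
      have h0 : a.testBit (w + (w * k + i)) = false :=
        Nat.testBit_lt_two_pow (ha.trans_le (Nat.pow_le_pow_right (by norm_num) (Nat.le_add_right _ _)))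
      rw [hbit', e, h0, Bool.false_or]
      simp

/-- The two inner conditions, on packed tables. -/
def stepsFast (n m EB SB GB PB : ℕ) : Bool :=
  ((List.range n).all fun k => (List.range m).all fun s =>
      Nat.blt (atW 12 SB (Nat.add (Nat.mul m k) s)) n &&
        unpack (atW 120 EB (atW 12 SB (Nat.add (Nat.mul m k) s))) ==
          comp (unpack (atW 120 EB k)) (unpack (atW 120 EB (atW 12 GB s)))) &&
    (List.range n).all fun j => Nat.beq j 0 ||
      (Nat.blt (atW 12 PB j) (Nat.mul m j) && Nat.beq (atW 12 SB (atW 12 PB j)) j)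

/-- The closure check, fast form. -/
def closedFast (E gens succ par : List ℕ) : Bool :=
  ((E.all fun a => Nat.blt a (2 ^ 120)) && (gens.all fun a => Nat.blt a 4096) &&
    (succ.all fun a => Nat.blt a 4096) && (par.all fun a => Nat.blt a 4096) &&
    Nat.beq succ.length (Nat.mul gens.length E.length) && Nat.beq par.length E.length &&
    ((elt E 0 == List.range 24) && gens.all (fun s => Nat.blt s E.length))) &&
  stepsFast E.length gens.length (packW 120 E) (packW 12 succ) (packW 12 gens) (packW 12 par)

theorem closedOK_of_fast {E gens succ par : List ℕ} (h : closedFast E gens succ par = true) :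
    closedOK E gens succ par = true := by
  simp only [closedFast, stepsFast, Bool.and_eq_true, List.all_eq_true] at h
  obtain ⟨⟨⟨⟨⟨⟨⟨hE, hG⟩, hS⟩, hP⟩, hSl⟩, hPl⟩, h0⟩, hsteps, hpar⟩ := h
  have lt : ∀ (L : List ℕ) (b : ℕ), (∀ a ∈ L, Nat.blt a b = true) → ∀ a ∈ L, a < b :=
    fun L b hL a ha => Nat.le_of_ble_eq_true (hL a ha)
  have eE := fun k hk => atW_packW 120 E k (lt E _ hE) hk
  have eG := fun k hk => atW_packW 12 gens k (lt gens _ hG) hk
  have eS := fun k hk => atW_packW 12 succ k (lt succ _ hS) hk
  have eP := fun k hk => atW_packW 12 par k (lt par _ hP) hk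
  have hSl' : succ.length = gens.length * E.length := Nat.eq_of_beq_eq_true hSl
  have hPl' : par.length = E.length := Nat.eq_of_beq_eq_true hPl
  simp only [closedOK, Bool.and_eq_true, List.all_eq_true]
  refine ⟨⟨fun k hk s hs => ?_, h0.1, h0.2⟩, fun j hj => ?_⟩
  · have := hsteps k hk s hs
    rw [List.mem_range] at hk hs
    have hidx : Nat.add (Nat.mul gens.length k) s < succ.length := by
      show gens.length * k + s < succ.length
      rw [hSl']
      calc gens.length * k + s < gens.length * k + gens.length := by omega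
        _ = gens.length * (k + 1) := (Nat.mul_succ _ _).symm
        _ ≤ gens.length * E.length := Nat.mul_le_mul_left _ hk
    rw [eS _ hidx] at this
    obtain ⟨h1, h2⟩ := this
    refine ⟨h1, ?_⟩
    rw [eE _ (Nat.le_of_ble_eq_true h1), eE _ hk, eG _ hs, eE _ ?_] at h2
    · exact h2
    · have hm : gens.getD s 0 ∈ gens := by rw [List.getD_eq_getElem _ _ hs]; exact List.getElem_mem _
      exact Nat.le_of_ble_eq_true (h0.2 _ hm)
  · have := hpar j hj
    rw [List.mem_range] at hj
    rw [eP _ (hPl'.symm ▸ hj)] at this
    rw [Bool.or_eq_true, Bool.and_eq_true] at this ⊢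
    rcases this with h1 | ⟨h1, h2⟩
    · exact Or.inl h1
    · refine Or.inr ⟨h1, ?_⟩
      rwa [eS _ ?_] at h2
      rw [hSl']
      exact lt_of_lt_of_le (Nat.le_of_ble_eq_true h1 : par.getD j 0 < gens.length * j)
        (Nat.mul_le_mul_left _ hj.le)

end CfsgLib.GolayTables
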