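import Cfsg.Agent.Lib.GolayTables.Subgroups
import Cfsg.Agent.Lib.GolayTables.Fast

/-!
# Keys and soundness of the five tables
-/

set_option autoImplicit false
set_option Elab.async false
set_option maxRecDepth 20000

namespace CfsgLib.GolayTables

open Cfsg CfsgLib.Golay
open scoped Pointwise

/-- Base-24 key from five images. -/
def keyFive (l : List ℕ) : ℕ :=
  ([23, 0, 1, 2, 3] : List ℕ).foldl (fun acc b => Nat.add (Nat.mul acc 24) (l.getD b 0)) 0

theorem soundQ : (gensQ.all fun s => genOK (elt eltsQ s) && fixQuartet (elt eltsQ s)) = true := by
  decide +kernel
theorem soundThree : soundOK fixThree eltsThree = true := by decide +kernel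
theorem soundPoint : (gensPoint.all fun s => genOK (elt eltsPoint s) && fixPoint (elt eltsPoint s)) = true := by
  decide +kernel
theorem soundDuo : (gensDuo.all fun s => genOK (elt eltsDuo s) && fixDuo (elt eltsDuo s)) = true := by
  decide +kernel
theorem soundCent : (gensCent.all fun s => genOK (elt eltsCent s) && fixCent (elt eltsCent s)) = true := by
  decide +kernel

theorem keysQ : distinctOK (eltsQ.map fun e => keyFive (unpack e)) = true := by decide +kernel
theorem keysThree : distinctOK (eltsThree.map fun e => keyFive (unpack e)) = true := by decide +kernel
theorem keysPoint : distinctOK (eltsPoint.map fun e => keyFive (unpack e)) = true := by decide +kernel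
theorem keysDuo : distinctOK (eltsDuo.map fun e => keyFive (unpack e)) = true := by decide +kernel
theorem keysCent : distinctOK (eltsCent.map fun e => keyFive (unpack e)) = true := by decide +kernel

end CfsgLib.GolayTables
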