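import Cfsg.Agent.Lib.GolayTables.CheckedKeys

/-!
# Closure of the point table
-/

set_option autoImplicit false
set_option Elab.async false
set_option maxRecDepth 20000

namespace CfsgLib.GolayTables

open Cfsg CfsgLib.Golay
open scoped Pointwise

/-- The step test on a block of indices. -/
def pointBlock (lo : ℕ) : Bool :=
  (List.range' lo 165).all fun k => (List.range 2).all fun s =>
    Nat.blt (atW 12 (packW 12 succPoint) (Nat.add (Nat.mul 2 k) s)) 660 &&
      unpack (atW 120 (packW 120 eltsPoint) (atW 12 (packW 12 succPoint) (Nat.add (Nat.mul 2 k) s))) ==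
        comp (unpack (atW 120 (packW 120 eltsPoint) k))
          (unpack (atW 120 (packW 120 eltsPoint) (atW 12 (packW 12 gensPoint) s)))

theorem pointBlock_0 : pointBlock 0 = true := by decide +kernel

theorem pointBlock_165 : pointBlock 165 = true := by decide +kernel

theorem pointBlock_330 : pointBlock 330 = true := by decide +kernel

theorem pointBlock_495 : pointBlock 495 = true := by decide +kernel

theorem point_rest :
    ((eltsPoint.all fun a => Nat.blt a (2 ^ 120)) && (gensPoint.all fun a => Nat.blt a 4096) &&
      (succPoint.all fun a => Nat.blt a 4096) && (parPoint.all fun a => Nat.blt a 4096) &&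
      Nat.beq succPoint.length (Nat.mul gensPoint.length eltsPoint.length) &&
      Nat.beq parPoint.length eltsPoint.length &&
      ((elt eltsPoint 0 == List.range 24) && gensPoint.all (fun s => Nat.blt s eltsPoint.length))) = true ∧
    ((List.range 660).all fun j => Nat.beq j 0 ||
      (Nat.blt (atW 12 (packW 12 parPoint) j) (Nat.mul 2 j) &&
        Nat.beq (atW 12 (packW 12 succPoint) (atW 12 (packW 12 parPoint) j)) j)) = true ∧
    eltsPoint.length = 660 ∧ gensPoint.length = 2 := by
  decide +kernel

theorem range_660 : List.range 660 =
    List.range' 0 165 ++ (List.range' 165 165 ++ (List.range' 330 165 ++ List.range' 495 165)) := by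
  decide +kernel

theorem closedPoint : closedOK eltsPoint gensPoint succPoint parPoint = true :=
  closedOK_of_fast (by
    obtain ⟨h1, h2, hn, hm⟩ := point_rest
    rw [closedFast, h1, Bool.true_and, stepsFast, hn, hm, h2, Bool.and_true, range_660, List.all_append,
      List.all_append, List.all_append]
    exact Bool.and_eq_true_iff.2 ⟨pointBlock_0, Bool.and_eq_true_iff.2 ⟨pointBlock_165,
      Bool.and_eq_true_iff.2 ⟨pointBlock_330, pointBlock_495⟩⟩⟩)

end CfsgLib.GolayTables
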