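import Cfsg.Agent.Lib.Golay.Orbits
import Cfsg.Agent.Lib.Golay.Dodecad

/-!
# Subgroups of `M24` given by tables of all their elements, and homomorphisms out of them
-/

set_option autoImplicit false

namespace CfsgLib.GolayTables

open Cfsg CfsgLib.Golay
open scoped Pointwise

/-- An image list packed in base 32. -/
def unpack (n : ℕ) : List ℕ := (List.range 24).map fun i => Nat.land (Nat.shiftRight n (Nat.mul 5 i)) 31

/-- The element at an index. -/
def elt (E : List ℕ) (k : ℕ) : List ℕ := unpack (E.getD k 0)

/-- Every entry is an element of the group recognised by `fixes`. -/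
def soundOK (fixes : List ℕ → Bool) (E : List ℕ) : Bool :=
  E.all fun e => genOK (unpack e) && fixes (unpack e)

/-- Pairwise distinctness. -/
def distinctOK : List ℕ → Bool
  | [] => true
  | a :: r => (r.all fun b => !(Nat.beq a b)) && distinctOK r

theorem nodup_of_distinctOK : ∀ L : List ℕ, distinctOK L = true → L.Nodup
  | [], _ => List.nodup_nil
  | a :: r, h => by
    simp only [distinctOK, Bool.and_eq_true, List.all_eq_true, Bool.not_eq_true'] at h
    refine List.nodup_cons.mpr ⟨fun ha => ?_, nodup_of_distinctOK r h.2⟩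
    have h1 := h.1 a ha
    rw [show Nat.beq a a = true from Nat.beq_refl a] at h1
    exact Bool.noConfusion h1

/-- Successor and parent tables: `succ` at `m * k + s` is the product of element `k` by generator `s`, and
every element but the first is such a product of an earlier one. -/
def closedOK (E gens succ par : List ℕ) : Bool :=
  ((List.range E.length).all fun k => (List.range gens.length).all fun s =>
      Nat.blt (succ.getD (Nat.add (Nat.mul gens.length k) s) 0) E.length &&
        elt E (succ.getD (Nat.add (Nat.mul gens.length k) s) 0) == comp (elt E k) (elt E (gens.getD s 0))) &&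
    ((elt E 0 == List.range 24) && gens.all (fun s => Nat.blt s E.length)) &&
    (List.range E.length).all fun j => Nat.beq j 0 ||
      (Nat.blt (par.getD j 0) (Nat.mul gens.length j) && Nat.beq (succ.getD (par.getD j 0) 0) j)

/-- Elements of `M24` as lists. -/
def img (g : M24) : List ℕ := toList (g : Equiv.Perm GolayPt)

theorem img_injective : Function.Injective img := toList_injective.comp Subtype.val_injective

theorem img_mul (g h : M24) : img (g * h) = comp (img g) (img h) := toList_mul _ _

theorem img_one : img 1 = List.range 24 := toList_one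

/-- A table of all elements of a subgroup. -/
structure Table (H : Subgroup M24) (E : List ℕ) : Prop where
  sound : ∀ k < E.length, ∃ g ∈ H, img g = elt E k
  inj : ∀ i < E.length, ∀ j < E.length, elt E i = elt E j → i = j
  card : Nat.card H = E.length

theorem sound_of_soundOK {H : Subgroup M24} {fixes : List ℕ → Bool}
    (hfix : ∀ g : M24, fixes (img g) = true → g ∈ H) {E : List ℕ} (h : soundOK fixes E = true) :
    ∀ k < E.length, ∃ g ∈ H, img g = elt E k := by
  intro k hk
  have hm : E.getD k 0 ∈ E := by rw [List.getD_eq_getElem _ _ hk]; exact List.getElem_mem _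
  have := List.all_eq_true.mp h _ hm
  rw [Bool.and_eq_true] at this
  obtain ⟨σ, hσ, hl⟩ := exists_perm this.1
  refine ⟨⟨σ, hσ⟩, hfix _ ?_, hl⟩
  show fixes (toList σ) = true
  rw [hl]; exact this.2

/-- Distinct keys give distinct elements. -/
theorem inj_of_keys {E : List ℕ} (key : List ℕ → ℕ) (h : distinctOK (E.map fun e => key (unpack e)) = true) :
    ∀ i < E.length, ∀ j < E.length, elt E i = elt E j → i = j := by
  intro i hi j hj hij
  have hn := nodup_of_distinctOK _ h
  refine (List.Nodup.getElem_inj_iff hn (hi := by simpa using hi) (hj := by simpa using hj)).mp ?_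
  simp only [elt, List.getD_eq_getElem _ _ hi, List.getD_eq_getElem _ _ hj] at hij
  simp only [List.getElem_map, hij]

/-- Soundness follows from closure when the generators are in the group. -/
theorem sound_of_closed {H : Subgroup M24} {fixes : List ℕ → Bool}
    (hfix : ∀ g : M24, fixes (img g) = true → g ∈ H) {E gens succ par : List ℕ}
    (hg : (gens.all fun s => genOK (elt E s) && fixes (elt E s)) = true)
    (hc : closedOK E gens succ par = true) : ∀ k < E.length, ∃ g ∈ H, img g = elt E k := by
  simp only [closedOK, Bool.and_eq_true, List.all_eq_true, List.mem_range, beq_iff_eq, Bool.or_eq_true] at hc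
  obtain ⟨⟨hsucc, hE0, -⟩, hpar⟩ := hc
  intro j
  induction j using Nat.strong_induction_on with
  | _ j ih =>
    intro hj
    rcases Nat.eq_zero_or_pos j with rfl | hpos
    · exact ⟨1, H.one_mem, by rw [img_one, hE0]⟩
    rcases hpar j hj with h0 | ⟨hp1, hp2⟩
    · have := Nat.eq_of_beq_eq_true h0; omega
    have hp1' : par.getD j 0 < gens.length * j := Nat.le_of_ble_eq_true hp1
    have hm : 0 < gens.length := by
      rcases Nat.eq_zero_or_pos gens.length with h0 | h0
      · rw [h0, Nat.zero_mul] at hp1'; omega
      · exact h0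
    obtain ⟨k, s, hs, hks⟩ : ∃ k s, s < gens.length ∧ par.getD j 0 = gens.length * k + s :=
      ⟨par.getD j 0 / gens.length, par.getD j 0 % gens.length, Nat.mod_lt _ hm,
        (Nat.div_add_mod _ _).symm⟩
    have hkj : k < j := Nat.lt_of_mul_lt_mul_left (a := gens.length) (by omega)
    have hst := (hsucc k (hkj.trans hj) s hs).2
    rw [show succ.getD (Nat.add (Nat.mul gens.length k) s) 0 = j from
      (hks ▸ Nat.eq_of_beq_eq_true hp2 : succ.getD (gens.length * k + s) 0 = j)] at hst
    obtain ⟨a, ha, ha'⟩ := ih k hkj (hkj.trans hj)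
    have hgm := List.all_eq_true.mp hg (gens.getD s 0)
      (by rw [List.getD_eq_getElem _ _ hs]; exact List.getElem_mem _)
    rw [Bool.and_eq_true] at hgm
    obtain ⟨σ, hσ, hl⟩ := exists_perm hgm.1
    refine ⟨a * ⟨σ, hσ⟩, H.mul_mem ha (hfix _ ?_), ?_⟩
    · show fixes (toList σ) = true
      rw [hl]; exact hgm.2
    · rw [img_mul, ha', hst]
      exact congrArg _ hl

namespace Table

variable {H : Subgroup M24} {E : List ℕ} (T : Table H E)
include T

theorem exists_index {g : M24} (hg : g ∈ H) : ∃ k < E.length, img g = elt E k := by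
  choose f hf hf' using T.sound
  have hfin : Finite H := Nat.finite_of_card_ne_zero (by
    rw [T.card]
    have := Nat.card_pos (α := H)
    rw [T.card] at this
    omega)
  have hb : Function.Bijective fun k : Fin E.length => (⟨f k.val k.isLt, hf _ _⟩ : H) := by
    rw [Nat.bijective_iff_injective_and_card]
    refine ⟨fun a b hab => Fin.ext (T.inj _ a.isLt _ b.isLt ?_), by rw [Nat.card_fin, T.card]⟩
    rw [← hf' _ a.isLt, ← hf' _ b.isLt]
    exact congrArg (fun x : H => img x.val) hab
  obtain ⟨k, hk⟩ := hb.2 ⟨g, hg⟩
  refine ⟨k.val, k.isLt, ?_⟩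
  rw [← hf' _ k.isLt]
  exact congrArg (fun x : H => img x.val) hk.symm

theorem existsUnique_index (g : H) : ∃! k, k < E.length ∧ img (g : M24) = elt E k := by
  obtain ⟨k, hk, hk'⟩ := T.exists_index g.2
  exact ⟨k, ⟨hk, hk'⟩, fun j hj => T.inj j hj.1 k hk (hj.2.symm.trans hk')⟩

/-- The index of an element. -/
noncomputable def index (g : H) : ℕ := (T.existsUnique_index g).choose

theorem index_spec (g : H) : T.index g < E.length ∧ img (g : M24) = elt E (T.index g) :=
  (T.existsUnique_index g).choose_spec.1

theorem index_eq {g : H} {k : ℕ} (hk : k < E.length) (h : img (g : M24) = elt E k) : T.index g = k :=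
  ((T.existsUnique_index g).choose_spec.2 k ⟨hk, h⟩).symm

/-- A labelling of the table respecting the generators is a homomorphism. -/
theorem exists_hom {G : Type*} [Group G] (φ : ℕ → G) {gens succ par : List ℕ}
    (hc : closedOK E gens succ par = true) (h1 : φ 0 = 1)
    (hφ : ∀ k < E.length, ∀ s < gens.length,
      φ (succ.getD (gens.length * k + s) 0) = φ k * φ (gens.getD s 0)) :
    ∃ f : H →* G, ∀ g : H, f g = φ (T.index g) := by
  simp only [closedOK, Bool.and_eq_true, List.all_eq_true, List.mem_range, beq_iff_eq, Bool.or_eq_true] at hc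
  obtain ⟨⟨hsucc, hE0, hgens⟩, hpar⟩ := hc
  have hmul : ∀ j, j < E.length → ∀ g h : H, T.index h = j →
      φ (T.index (g * h)) = φ (T.index g) * φ j := by
    intro j
    induction j using Nat.strong_induction_on with
    | _ j ih =>
      intro hj g h hh
      obtain ⟨-, hspec⟩ := T.index_spec h
      rw [hh] at hspec
      rcases Nat.eq_zero_or_pos j with rfl | hpos
      · have : h = 1 := by
          apply Subtype.ext
          apply img_injective
          rw [hspec, hE0]; exact img_one.symm
        rw [this, mul_one, h1, mul_one]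
      · rcases hpar j hj with h0 | ⟨hp1, hp2⟩
        · have := Nat.eq_of_beq_eq_true h0; omega
        have hp1' : par.getD j 0 < gens.length * j := Nat.le_of_ble_eq_true hp1
        have hm : 0 < gens.length := by
          rcases Nat.eq_zero_or_pos gens.length with h0 | h0
          · rw [h0, Nat.zero_mul] at hp1'; omega
          · exact h0
        obtain ⟨k, s, hs, hks⟩ : ∃ k s, s < gens.length ∧ par.getD j 0 = gens.length * k + s :=
          ⟨par.getD j 0 / gens.length, par.getD j 0 % gens.length, Nat.mod_lt _ hm,
            (Nat.div_add_mod _ _).symm⟩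
        have hkj : k < j := Nat.lt_of_mul_lt_mul_left (a := gens.length) (by omega)
        have hkl : k < E.length := hkj.trans hj
        have hst := hsucc k hkl s hs
        have hsucceq : succ.getD (gens.length * k + s) 0 = j := hks ▸ Nat.eq_of_beq_eq_true hp2
        have hst2 : elt E j = comp (elt E k) (elt E (gens.getD s 0)) := hsucceq ▸ hst.2
        have hgl : gens.getD s 0 < E.length := by
          rw [List.getD_eq_getElem _ _ hs]
          exact Nat.le_of_ble_eq_true (hgens _ (List.getElem_mem _))
        obtain ⟨a, ha, ha'⟩ := T.sound k hkl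
        obtain ⟨c, hc, hc'⟩ := T.sound _ hgl
        have hhac : h = ⟨a, ha⟩ * ⟨c, hc⟩ := by
          apply Subtype.ext
          apply img_injective
          rw [hspec, hst2, Subgroup.coe_mul, img_mul, ha', hc']
        have key : ∀ u : H, φ (T.index (u * ⟨c, hc⟩)) = φ (T.index u) * φ (gens.getD s 0) := by
          intro u
          obtain ⟨hu, hu'⟩ := T.index_spec u
          have h2 := hsucc (T.index u) hu s hs
          rw [T.index_eq (k := succ.getD (gens.length * T.index u + s) 0) (Nat.le_of_ble_eq_true h2.1) ?_]
          · exact hφ _ hu s hs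
          · rw [Subgroup.coe_mul, img_mul, hu', hc']; exact h2.2.symm
        rw [hhac, ← mul_assoc, key, ih k hkj hkl g ⟨a, ha⟩ (T.index_eq hkl ha'), ← hsucceq, hφ k hkl s hs,
          mul_assoc]
  refine ⟨MonoidHom.mk' (fun g => φ (T.index g)) (fun g h => hmul _ (T.index_spec h).1 g h rfl), fun g => rfl⟩

end Table

/-! ### Counting by five images -/

theorem eq_of_five {d : Finset GolayPt} (hd : d ∈ dodecads) {g h : M24}
    (hg : g • d = d) (hh : h • d = d) {L : List GolayPt} (hL : L.Nodup) (h5 : L.length = 5)
    (hLd : ∀ p ∈ L, p ∈ d)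
    (heq : L.map (g : Equiv.Perm GolayPt) = L.map (h : Equiv.Perm GolayPt)) : g = h := by
  have hL' : (L.map (g : Equiv.Perm GolayPt)).Nodup := hL.map (Equiv.injective _)
  obtain ⟨u, -, hu⟩ := existsUnique_dodecad hd hL hL' h5 (by simp [h5]) hLd (fun p hp => by
    obtain ⟨q, hq, rfl⟩ := List.mem_map.mp hp
    exact (apply_mem_iff_of_smul_eq (σ := (g : Equiv.Perm GolayPt)) hg q).mpr (hLd q hq))
  exact Subtype.ext ((hu _ ⟨g.2, hg, rfl⟩).trans (hu _ ⟨h.2, hh, heq.symm⟩).symm)

theorem card_le_of_tuples {d : Finset GolayPt} (hd : d ∈ dodecads) {H : Subgroup M24}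
    (hH : ∀ g ∈ H, g • d = d) {L : List GolayPt} (hL : L.Nodup) (h5 : L.length = 5) (hLd : ∀ p ∈ L, p ∈ d)
    (A : List (List GolayPt)) (hA : ∀ g ∈ H, L.map (g : Equiv.Perm GolayPt) ∈ A) :
    Nat.card H ≤ A.length := by
  classical
  have hinj : Function.Injective
      (fun g : H => (⟨L.map ((g : M24) : Equiv.Perm GolayPt), List.mem_toFinset.mpr (hA _ g.2)⟩ :
        {x // x ∈ A.toFinset})) := fun g h e =>
    Subtype.ext (eq_of_five hd (hH _ g.2) (hH _ h.2) hL h5 hLd (congrArg Subtype.val e))
  have := Nat.card_le_card_of_injective _ hinj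
  rw [Nat.card_eq_fintype_card (α := {x // x ∈ A.toFinset}), Fintype.card_coe] at this
  exact this.trans (List.toFinset_card_le A)

theorem Table.of_bound {H : Subgroup M24} {E : List ℕ}
    (sound : ∀ k < E.length, ∃ g ∈ H, img g = elt E k)
    (inj : ∀ i < E.length, ∀ j < E.length, elt E i = elt E j → i = j) (hle : Nat.card H ≤ E.length) :
    Table H E := by
  refine ⟨sound, inj, le_antisymm hle ?_⟩
  choose f hf hf' using sound
  have hinj : Function.Injective fun k : Fin E.length => (⟨f k.val k.isLt, hf _ _⟩ : H) := fun a b hab => by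
    refine Fin.ext (inj _ a.isLt _ b.isLt ?_)
    rw [← hf' _ a.isLt, ← hf' _ b.isLt]
    exact congrArg (fun x : H => img x.val) hab
  simpa using Nat.card_le_card_of_injective _ hinj

/-- Conjugate stabilisers. -/
theorem mem_conj_iff {g u : M24} {H H' : Subgroup M24} (h : H' = H.map (MulAut.conj g).toMonoidHom) :
    u ∈ H' ↔ g⁻¹ * u * g ∈ H := by
  rw [h, Subgroup.mem_map_equiv, MulAut.conj_symm_apply]

theorem map_conj_stabilizer {α : Type*} [MulAction M24 α] (g : M24) (a : α) :
    (MulAction.stabilizer M24 a).map (MulAut.conj g).toMonoidHom = MulAction.stabilizer M24 (g • a) := by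
  rw [MulAction.stabilizer_smul_eq_stabilizer_map_conj]

theorem map_conj_inf (g : M24) (A B : Subgroup M24) :
    (A ⊓ B).map (MulAut.conj g).toMonoidHom =
      A.map (MulAut.conj g).toMonoidHom ⊓ B.map (MulAut.conj g).toMonoidHom :=
  Subgroup.map_inf _ _ _ (MulAut.conj g).injective

end CfsgLib.GolayTables
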