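import Cfsg.Agent.Lib.GolayTables.Checked
import Cfsg.Agent.Classical.SLBasic

/-!
# The labelled tables as homomorphisms
-/

set_option autoImplicit false
set_option Elab.async false
set_option maxRecDepth 20000

namespace CfsgLib.GolayTables

open Cfsg CfsgLib.Golay
open scoped Pointwise MatrixGroups

/-! ### The symmetric group of degree five -/

/-- The function with the given five digits. -/
def digitsFive (x : ℕ) (i : Fin 5) : Fin 5 := ⟨x / 5 ^ i.val % 5, Nat.mod_lt _ (by norm_num)⟩

/-- The permutation with the given five digits. -/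
noncomputable def permFive (x : ℕ) : Equiv.Perm (Fin 5) :=
  if h : Function.Bijective (digitsFive x) then Equiv.ofBijective _ h else 1

/-- The composition check. -/
def mulFiveOK (z x y : ℕ) : Bool :=
  decide (Function.Injective (digitsFive x)) && decide (Function.Injective (digitsFive y)) &&
    decide (∀ i, digitsFive z i = digitsFive x (digitsFive y i))

theorem permFive_apply {x : ℕ} (h : Function.Injective (digitsFive x)) (i : Fin 5) :
    permFive x i = digitsFive x i := by
  rw [permFive, dif_pos (Finite.injective_iff_bijective.mp h)]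
  rfl

theorem permFive_mul {z x y : ℕ} (h : mulFiveOK z x y = true) : permFive z = permFive x * permFive y := by
  simp only [mulFiveOK, Bool.and_eq_true, decide_eq_true_eq] at h
  obtain ⟨⟨hx, hy⟩, hz⟩ := h
  have hzi : Function.Injective (digitsFive z) := by
    intro a b hab
    rw [hz, hz] at hab
    exact hy (hx hab)
  ext1 i
  rw [Equiv.Perm.mul_apply, permFive_apply hzi, permFive_apply hy, permFive_apply hx, hz]

theorem duo_checks :
    (List.range 120).all (fun k => (List.range 2).all fun s =>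
      mulFiveOK (labDuo.getD (succDuo.getD (2 * k + s) 0) 0) (labDuo.getD k 0) (labDuo.getD (gensDuo.getD s 0) 0))
      = true ∧
    ((List.range 120).all fun k => Nat.beq k 0 ||
      !(decide (∀ i, digitsFive (labDuo.getD k 0) i = i))) = true ∧
    (List.range 120).all (fun k => decide (Function.Injective (digitsFive (labDuo.getD k 0)))) = true ∧
    eltsDuo.length = 120 ∧ gensDuo.length = 2 ∧ (∀ i, digitsFive (labDuo.getD 0 0) i = i) := by
  decide +kernel

theorem duo_iso : Nonempty (duoGroup ≃* Equiv.Perm (Fin 5)) := by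
  obtain ⟨h1, h2, h3, hlen, hg, h0⟩ := duo_checks
  simp only [List.all_eq_true, List.mem_range] at h1 h2 h3
  obtain ⟨f, hf⟩ := tableDuo.exists_hom (fun k => permFive (labDuo.getD k 0)) closedDuo (by
      ext1 i
      rw [permFive_apply (of_decide_eq_true (h3 0 (by norm_num))), h0, Equiv.Perm.one_apply])
    (fun k hk s hs => by
      rw [hg]
      exact permFive_mul (h1 k (hlen ▸ hk) s (hg ▸ hs)))
  have hinj : Function.Injective f := by
    rw [injective_iff_map_eq_one]
    intro g hg'
    rw [hf] at hg'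
    obtain ⟨hi, hi'⟩ := tableDuo.index_spec g
    rw [hlen] at hi
    have h := h2 _ hi
    have hall : ∀ i, digitsFive (labDuo.getD (tableDuo.index g) 0) i = i := fun i => by
      rw [← permFive_apply (of_decide_eq_true (h3 _ hi)), hg', Equiv.Perm.one_apply]
    rw [decide_eq_true hall] at h
    simp only [Bool.not_true, Bool.or_false] at h
    refine Subtype.ext (img_injective ?_)
    rw [hi', Nat.eq_of_beq_eq_true h, OneMemClass.coe_one, img_one]
    exact (by decide +kernel : elt eltsDuo 0 = List.range 24)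
  have hbij : Function.Bijective f := (Nat.bijective_iff_injective_and_card _).mpr ⟨hinj, by
    rw [natCard_duoGroup, Nat.card_eq_fintype_card, Fintype.card_perm, Fintype.card_fin]; rfl⟩
  exact ⟨MulEquiv.ofBijective f hbij⟩

/-! ### PSL(2,11) -/

/-- A digit. -/
def dig (p x i : ℕ) : ℕ := x / p ^ i % p

/-- The determinant is one. -/
def detOneOK (x : ℕ) : Bool := Nat.beq ((dig 11 x 0 * dig 11 x 3 + 10 * (dig 11 x 1 * dig 11 x 2)) % 11) 1

/-- Entries of a product of two labelled matrices. -/
def prodDig (p x y : ℕ) : List ℕ :=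
  [(dig p x 0 * dig p y 0 + dig p x 1 * dig p y 2) % p, (dig p x 0 * dig p y 1 + dig p x 1 * dig p y 3) % p,
    (dig p x 2 * dig p y 0 + dig p x 3 * dig p y 2) % p, (dig p x 2 * dig p y 1 + dig p x 3 * dig p y 3) % p]

/-- The labelled matrix. -/
def matOf (p x : ℕ) : Matrix (Fin 2) (Fin 2) (ZMod p) :=
  !![(dig p x 0 : ZMod p), dig p x 1; dig p x 2, dig p x 3]

theorem matOf_mul (p x y : ℕ) :
    matOf p x * matOf p y = !![((prodDig p x y).getD 0 0 : ZMod p), (prodDig p x y).getD 1 0;
      (prodDig p x y).getD 2 0, (prodDig p x y).getD 3 0] := by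
  rw [matOf, matOf, Matrix.mul_fin_two]
  simp [prodDig, ZMod.natCast_mod]

/-- The labelled element of SL. -/
noncomputable def slOf (x : ℕ) : Matrix.SpecialLinearGroup (Fin 2) (ZMod 11) :=
  if h : (matOf 11 x).det = 1 then ⟨matOf 11 x, h⟩ else 1

theorem det_of_detOneOK {x : ℕ} (h : detOneOK x = true) : (matOf 11 x).det = 1 := by
  have h' : (((dig 11 x 0 * dig 11 x 3 + 10 * (dig 11 x 1 * dig 11 x 2)) % 11 : ℕ) : ZMod 11) = 1 := by
    rw [Nat.eq_of_beq_eq_true h, Nat.cast_one]
  rw [ZMod.natCast_mod] at h'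
  push_cast at h'
  rw [matOf, Matrix.det_fin_two_of]
  have e : (10 : ZMod 11) = -1 := by decide
  rw [e] at h'
  linear_combination h'

theorem slOf_val {x : ℕ} (h : detOneOK x = true) :
    (slOf x : Matrix (Fin 2) (Fin 2) (ZMod 11)) = matOf 11 x := by
  exact congrArg Subtype.val (dif_pos (det_of_detOneOK h))

/-- The relation up to sign. -/
def mulPSLOK (z x y : ℕ) : Bool :=
  detOneOK x && detOneOK y && detOneOK z &&
    (([dig 11 z 0, dig 11 z 1, dig 11 z 2, dig 11 z 3] == prodDig 11 x y) ||
      (((List.range 4).map fun i => (11 - dig 11 z i) % 11) == prodDig 11 x y))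

/-- The labelled element of PSL. -/
noncomputable def pslOf (x : ℕ) : Matrix.ProjectiveSpecialLinearGroup (Fin 2) (ZMod 11) :=
  QuotientGroup.mk' _ (slOf x)

theorem neg_one_mem_center :
    (-1 : Matrix.SpecialLinearGroup (Fin 2) (ZMod 11)) ∈
      Subgroup.center (Matrix.SpecialLinearGroup (Fin 2) (ZMod 11)) :=
  Subgroup.mem_center_iff.mpr fun g => by simp

theorem pslOf_mul {z x y : ℕ} (h : mulPSLOK z x y = true) : pslOf z = pslOf x * pslOf y := by
  simp only [mulPSLOK, Bool.and_eq_true, Bool.or_eq_true, beq_iff_eq] at h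
  obtain ⟨⟨⟨hx, hy⟩, hz⟩, h⟩ := h
  rw [pslOf, pslOf, pslOf, ← map_mul]
  rcases h with h | h
  · refine congrArg _ (Subtype.ext ?_)
    rw [Matrix.SpecialLinearGroup.coe_mul, slOf_val hx, slOf_val hy, slOf_val hz, matOf_mul, ← h, matOf]
    rfl
  · have e : slOf x * slOf y = slOf z * (-1) := by
      refine Subtype.ext ?_
      rw [Matrix.SpecialLinearGroup.coe_mul, mul_neg_one, Matrix.SpecialLinearGroup.coe_neg,
        slOf_val hx, slOf_val hy, slOf_val hz, matOf_mul, ← h, matOf]
      have hd : ∀ i, dig 11 z i ≤ 11 := fun i => (Nat.mod_lt _ (by norm_num)).le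
      have e11 : (11 : ZMod 11) = 0 := by decide
      ext i j
      fin_cases i <;> fin_cases j <;>
        simp [List.range_succ, ZMod.natCast_mod, Nat.cast_sub (hd _), e11]
    rw [e, map_mul, show QuotientGroup.mk' (Subgroup.center _) (-1 : Matrix.SpecialLinearGroup (Fin 2) (ZMod 11))
      = 1 from (QuotientGroup.eq_one_iff _).mpr neg_one_mem_center, mul_one]

theorem psl_eq_one_cases {x : ℕ} (hx : detOneOK x = true) (h : pslOf x = 1) :
    dig 11 x 1 = 0 ∧ dig 11 x 2 = 0 ∧ dig 11 x 0 = dig 11 x 3 := by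
  have hc : slOf x ∈ Subgroup.center _ := (QuotientGroup.eq_one_iff _).mp h
  obtain ⟨r, -, hr⟩ := Matrix.SpecialLinearGroup.mem_center_iff.mp hc
  rw [slOf_val hx] at hr
  have hd : ∀ i, dig 11 x i < 11 := fun i => Nat.mod_lt _ (by norm_num)
  have h00 := congrFun (congrFun hr 0) 0
  have h01 := congrFun (congrFun hr 0) 1
  have h10 := congrFun (congrFun hr 1) 0
  have h11 := congrFun (congrFun hr 1) 1
  simp [matOf, Matrix.scalar_apply] at h00 h01 h10 h11
  have inj : ∀ i j, (dig 11 x i : ZMod 11) = dig 11 x j → dig 11 x i = dig 11 x j := fun i j e => by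
    have := congrArg ZMod.val e
    rwa [ZMod.val_natCast_of_lt (hd i), ZMod.val_natCast_of_lt (hd j)] at this
  have z : ∀ i, (dig 11 x i : ZMod 11) = 0 → dig 11 x i = 0 := fun i e => by
    have := congrArg ZMod.val e
    rwa [ZMod.val_natCast_of_lt (hd i), ZMod.val_zero] at this
  exact ⟨z 1 h01.symm, z 2 h10.symm, inj 0 3 (h00.symm.trans h11)⟩

theorem point_checks :
    ((List.range 660).all (fun k => (List.range 2).all fun s =>
      mulPSLOK (atW 16 (packW 16 labPoint) (atW 12 (packW 12 succPoint) (2 * k + s)))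
        (atW 16 (packW 16 labPoint) k) (atW 16 (packW 16 labPoint) (gensPoint.getD s 0)))) = true ∧
    ((List.range 660).all fun k => Nat.beq k 0 ||
      !(Nat.beq (dig 11 (atW 16 (packW 16 labPoint) k) 1) 0 && Nat.beq (dig 11 (atW 16 (packW 16 labPoint) k) 2) 0 &&
        Nat.beq (dig 11 (atW 16 (packW 16 labPoint) k) 0) (dig 11 (atW 16 (packW 16 labPoint) k) 3))) = true ∧
    (List.range 660).all (fun k => detOneOK (atW 16 (packW 16 labPoint) k)) = true ∧
    labPoint.all (fun a => Nat.blt a (2 ^ 16)) = true ∧ succPoint.all (fun a => Nat.blt a (2 ^ 12)) = true ∧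
    eltsPoint.length = 660 ∧ gensPoint.length = 2 ∧ labPoint.length = 660 ∧ succPoint.length = 1320 ∧
    labPoint.getD 0 0 = 1332 := by
  decide +kernel

theorem card_psl_two_eleven : Nat.card (Matrix.ProjectiveSpecialLinearGroup (Fin 2) (ZMod 11)) = 660 := by
  haveI : Fact (Nat.Prime 11) := ⟨by norm_num⟩
  have h := Cfsg.Agent.Classical.card_psl_mul (F := ZMod 11) 2 (by norm_num)
  rw [ZMod.card] at h
  norm_num [Fin.prod_univ_two, Finset.prod_range_succ] at h
  rw [← Nat.card_eq_fintype_card] at h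
  omega

theorem point_iso : Nonempty (pointGroup ≃* Matrix.ProjectiveSpecialLinearGroup (Fin 2) (ZMod 11)) := by
  haveI : Fact (Nat.Prime 11) := ⟨by norm_num⟩
  obtain ⟨h1, h2, h3, hl, hs, hlen, hg, hll, hsl, h0⟩ := point_checks
  simp only [List.all_eq_true, List.mem_range] at h1 h2 h3 hl hs
  have eL : ∀ k, k < 660 → atW 16 (packW 16 labPoint) k = labPoint.getD k 0 := fun k hk =>
    atW_packW 16 labPoint k (fun a ha => Nat.le_of_ble_eq_true (hl a ha)) (hll ▸ hk)
  have eS : ∀ k, k < 1320 → atW 12 (packW 12 succPoint) k = succPoint.getD k 0 := fun k hk =>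
    atW_packW 12 succPoint k (fun a ha => Nat.le_of_ble_eq_true (hs a ha)) (hsl ▸ hk)
  have hgs : ∀ s < 2, gensPoint.getD s 0 < 660 := by decide +kernel
  have hsucc : ∀ k < 660, ∀ s < 2, succPoint.getD (2 * k + s) 0 < 660 := by
    have h := closedPoint
    simp only [closedOK, Bool.and_eq_true, List.all_eq_true, List.mem_range] at h
    intro k hk s hs
    have := Nat.le_of_ble_eq_true (h.1.1 k (hlen.symm ▸ hk) s (hg.symm ▸ hs)).1
    rw [hlen, hg] at this
    exact this
  obtain ⟨f, hf⟩ := tablePoint.exists_hom (fun k => pslOf (labPoint.getD k 0)) closedPoint (by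
      rw [h0, pslOf, QuotientGroup.mk'_apply, QuotientGroup.eq_one_iff]
      have : slOf 1332 = 1 := by
        refine Subtype.ext ?_
        rw [slOf_val (by decide +kernel), Matrix.SpecialLinearGroup.coe_one]
        decide +kernel
      rw [this]; exact Subgroup.one_mem _)
    (fun k hk s hs => by
      rw [hg] at hs ⊢
      rw [hlen] at hk
      have h := h1 k hk s hs
      rw [eS _ (by omega), eL _ hk, eL _ (hgs s hs), eL _ (hsucc k hk s hs)] at h
      exact pslOf_mul h)
  have hinj : Function.Injective f := by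
    rw [injective_iff_map_eq_one]
    intro g hg'
    rw [hf] at hg'
    obtain ⟨hi, hi'⟩ := tablePoint.index_spec g
    rw [hlen] at hi
    have h := h2 _ hi
    have hd := h3 _ hi
    rw [eL _ hi] at h hd
    obtain ⟨a, b, c⟩ := psl_eq_one_cases hd hg'
    rw [a, b, c] at h
    simp only [show Nat.beq 0 0 = true from rfl, Nat.beq_refl, Bool.and_self, Bool.not_true, Bool.or_false] at h
    refine Subtype.ext (img_injective ?_)
    rw [hi', Nat.eq_of_beq_eq_true h, OneMemClass.coe_one, img_one]
    exact (by decide +kernel : elt eltsPoint 0 = List.range 24)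
  have : Finite (Matrix.ProjectiveSpecialLinearGroup (Fin 2) (ZMod 11)) :=
    Nat.finite_of_card_ne_zero (by rw [card_psl_two_eleven]; norm_num)
  exact ⟨MulEquiv.ofBijective f ((Nat.bijective_iff_injective_and_card _).mpr
    ⟨hinj, by rw [natCard_pointGroup, card_psl_two_eleven]⟩)⟩

/-! ### GL(2,3) -/

/-- The determinant modulo 3. -/
def detThreeOK (x : ℕ) : Bool := !(Nat.beq ((dig 3 x 0 * dig 3 x 3 + 2 * (dig 3 x 1 * dig 3 x 2)) % 3) 0)

/-- The relation. -/
def mulGLOK (z x y : ℕ) : Bool :=
  detThreeOK x && detThreeOK y && detThreeOK z && ([dig 3 z 0, dig 3 z 1, dig 3 z 2, dig 3 z 3] == prodDig 3 x y)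

/-- The labelled element of GL. -/
noncomputable def glOf (x : ℕ) : GL (Fin 2) (ZMod 3) :=
  haveI : Fact (Nat.Prime 3) := ⟨Nat.prime_three⟩
  if h : (matOf 3 x).det ≠ 0 then Matrix.GeneralLinearGroup.mkOfDetNeZero (matOf 3 x) h else 1

theorem glOf_val {x : ℕ} (h : detThreeOK x = true) :
    (glOf x : Matrix (Fin 2) (Fin 2) (ZMod 3)) = matOf 3 x := by
  haveI : Fact (Nat.Prime 3) := ⟨Nat.prime_three⟩
  have hd : (matOf 3 x).det ≠ 0 := by
    intro h0
    rw [matOf, Matrix.det_fin_two_of] at h0
    have h' : ((((dig 3 x 0 * dig 3 x 3 + 2 * (dig 3 x 1 * dig 3 x 2)) % 3 : ℕ)) : ZMod 3) = 0 := by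
      rw [ZMod.natCast_mod]
      push_cast
      have e3 : (3 : ZMod 3) = 0 := rfl
      linear_combination h0 + ((dig 3 x 1 : ZMod 3) * dig 3 x 2) * e3
    have h'' := congrArg ZMod.val h'
    rw [ZMod.val_natCast_of_lt (Nat.mod_lt _ (by norm_num)), ZMod.val_zero] at h''
    simp [detThreeOK, h''] at h
  rw [glOf, dif_pos hd]
  rfl

theorem glOf_mul {z x y : ℕ} (h : mulGLOK z x y = true) : glOf z = glOf x * glOf y := by
  simp only [mulGLOK, Bool.and_eq_true, beq_iff_eq] at h
  obtain ⟨⟨⟨hx, hy⟩, hz⟩, h⟩ := h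
  refine Units.ext ?_
  rw [Units.val_mul, glOf_val hx, glOf_val hy, glOf_val hz, matOf_mul, ← h, matOf]
  rfl

theorem glOf_injective : ∀ x < 81, ∀ y < 81, detThreeOK x = true → detThreeOK y = true →
    glOf x = glOf y → x = y := by
  have key : ∀ x < 81, ∀ y < 81, matOf 3 x = matOf 3 y → x = y := by
    intro x hx y hy e
    have hd : ∀ z i, dig 3 z i < 3 := fun z i => Nat.mod_lt _ (by norm_num)
    have inj : ∀ i, (dig 3 x i : ZMod 3) = dig 3 y i → dig 3 x i = dig 3 y i := fun i h => by
      have := congrArg ZMod.val h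
      rwa [ZMod.val_natCast_of_lt (hd x i), ZMod.val_natCast_of_lt (hd y i)] at this
    have e0 := inj 0 (by simpa [matOf] using congrFun (congrFun e 0) 0)
    have e1 := inj 1 (by simpa [matOf] using congrFun (congrFun e 0) 1)
    have e2 := inj 2 (by simpa [matOf] using congrFun (congrFun e 1) 0)
    have e3 := inj 3 (by simpa [matOf] using congrFun (congrFun e 1) 1)
    simp only [dig] at e0 e1 e2 e3
    omega
  intro x hx y hy h1 h2 h
  refine key x hx y hy ?_
  rw [← glOf_val h1, ← glOf_val h2, h]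

theorem card_gl_two_three : Nat.card (GL (Fin 2) (ZMod 3)) = 48 := by
  haveI : Fact (Nat.Prime 3) := ⟨Nat.prime_three⟩
  rw [Matrix.card_GL_field]
  norm_num [Fin.prod_univ_two, ZMod.card]

theorem glOne : glOf 28 = 1 := by
  refine Units.ext ?_
  rw [glOf_val (by decide +kernel), Units.val_one]
  decide +kernel

theorem cent_checks :
    ((List.range 48).all fun k => (List.range 2).all fun s =>
      mulGLOK (labCent.getD (succCent.getD (2 * k + s) 0) 0) (labCent.getD k 0) (labCent.getD (gensCent.getD s 0) 0))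
      = true ∧
    ((List.range 48).all fun k => (Nat.beq k 0 || !(Nat.beq (labCent.getD k 0) 28)) &&
      detThreeOK (labCent.getD k 0) && Nat.blt (labCent.getD k 0) 81) = true ∧
    eltsCent.length = 48 ∧ gensCent.length = 2 ∧ labCent.getD 0 0 = 28 ∧ elt eltsCent 0 = List.range 24 := by
  decide +kernel

theorem cent_iso : Nonempty (centGroup ≃* GL (Fin 2) (ZMod 3)) := by
  haveI : Fact (Nat.Prime 3) := ⟨Nat.prime_three⟩
  obtain ⟨h1, h2, hlen, hg, h0, he⟩ := cent_checks
  simp only [List.all_eq_true, List.mem_range, Bool.and_eq_true] at h1 h2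
  obtain ⟨f, hf⟩ := tableCent.exists_hom (fun k => glOf (labCent.getD k 0)) closedCent (by rw [h0]; exact glOne)
    (fun k hk s hs => by
      rw [hg]
      exact glOf_mul (h1 k (hlen ▸ hk) s (hg ▸ hs)))
  have hinj : Function.Injective f := by
    rw [injective_iff_map_eq_one]
    intro g hg'
    rw [hf, ← glOne] at hg'
    obtain ⟨hi, hi'⟩ := tableCent.index_spec g
    rw [hlen] at hi
    obtain ⟨⟨h, hd⟩, hb⟩ := h2 _ hi
    rw [glOf_injective _ (Nat.le_of_ble_eq_true hb) 28 (by norm_num) hd (by decide +kernel) hg',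
      show Nat.beq 28 28 = true from rfl, Bool.not_true, Bool.or_false] at h
    refine Subtype.ext (img_injective ?_)
    rw [hi', Nat.eq_of_beq_eq_true h, OneMemClass.coe_one, img_one, he]
  exact ⟨MulEquiv.ofBijective f ((Nat.bijective_iff_injective_and_card _).mpr
    ⟨hinj, by rw [tableCent.card, hlen, card_gl_two_three]⟩)⟩

/-- The relation on a block of indices. -/
def quartetBlock (lo : ℕ) : Bool :=
  (List.range' lo 108).all fun k => (List.range 2).all fun s =>
    mulGLOK (labQ.getD (succQ.getD (2 * k + s) 0) 0) (labQ.getD k 0) (labQ.getD (gensQ.getD s 0) 0)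

theorem quartetBlock_0 : quartetBlock 0 = true := by decide +kernel

theorem quartetBlock_108 : quartetBlock 108 = true := by decide +kernel

theorem quartetBlock_216 : quartetBlock 216 = true := by decide +kernel

theorem quartetBlock_324 : quartetBlock 324 = true := by decide +kernel

theorem quartet_mul : ∀ k < 432, ∀ s < 2,
    mulGLOK (labQ.getD (succQ.getD (2 * k + s) 0) 0) (labQ.getD k 0) (labQ.getD (gensQ.getD s 0) 0) = true := by
  intro k hk s hs
  have h : ∀ lo, quartetBlock lo = true → lo ≤ k → k < lo + 108 →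
      mulGLOK (labQ.getD (succQ.getD (2 * k + s) 0) 0) (labQ.getD k 0) (labQ.getD (gensQ.getD s 0) 0) = true :=
    fun lo h h1 h2 => List.all_eq_true.1 (List.all_eq_true.1 h k (List.mem_range'_1.2 ⟨h1, h2⟩)) s
      (List.mem_range.2 hs)
  rcases Nat.lt_or_ge k 108 with c | c
  · exact h 0 quartetBlock_0 (Nat.zero_le _) (by omega)
  rcases Nat.lt_or_ge k 216 with c2 | c2
  · exact h 108 quartetBlock_108 c (by omega)
  rcases Nat.lt_or_ge k 324 with c3 | c3
  · exact h 216 quartetBlock_216 c2 (by omega)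
  · exact h 324 quartetBlock_324 c3 (by omega)

theorem quartet_checks :
    ((List.range 432).all fun k => detThreeOK (labQ.getD k 0) && Nat.blt (labQ.getD k 0) 81) = true ∧
    ((List.range 81).all fun x => !(detThreeOK x) || labQ.contains x) = true ∧
    eltsQ.length = 432 ∧ labQ.length = 432 ∧ gensQ.length = 2 ∧ labQ.getD 0 0 = 28 := by
  decide +kernel

theorem matOf_surj : ∀ M : Matrix (Fin 2) (Fin 2) (ZMod 3), ∃ x < 81, matOf 3 x = M := by
  have key : ∀ a b c d : ZMod 3, ∃ x < 81, matOf 3 x = !![a, b; c, d] := by decide +kernel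
  intro M
  obtain ⟨x, hx, h⟩ := key (M 0 0) (M 0 1) (M 1 0) (M 1 1)
  exact ⟨x, hx, h.trans (Matrix.eta_fin_two M).symm⟩

theorem detThreeOK_of_det : ∀ x < 81, (matOf 3 x).det ≠ 0 → detThreeOK x = true := by decide +kernel

theorem quartet_quotient : ∃ f : quartetGroup →* GL (Fin 2) (ZMod 3),
    Function.Surjective f ∧ Nat.card f.ker = 9 := by
  haveI : Fact (Nat.Prime 3) := ⟨Nat.prime_three⟩
  obtain ⟨h2, h3, hlen, hll, hg, h0⟩ := quartet_checks
  have h1 := quartet_mul
  simp only [List.all_eq_true, List.mem_range, Bool.and_eq_true] at h2 h3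
  obtain ⟨f, hf⟩ := tableQ.exists_hom (fun k => glOf (labQ.getD k 0)) closedQ (by rw [h0]; exact glOne)
    (fun k hk s hs => by
      rw [hg]
      exact glOf_mul (h1 k (hlen ▸ hk) s (hg ▸ hs)))
  have hsurj : Function.Surjective f := by
    intro M
    obtain ⟨x, hx, hxM⟩ := matOf_surj (M : Matrix (Fin 2) (Fin 2) (ZMod 3))
    have hdet : detThreeOK x = true := by
      have hM := Matrix.GeneralLinearGroup.det_ne_zero M
      rw [← hxM] at hM
      exact detThreeOK_of_det x hx hM
    have h := h3 x hx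
    rw [hdet, Bool.not_true, Bool.false_or, List.contains_iff_mem] at h
    obtain ⟨k, hk, hkx⟩ := List.getElem_of_mem h
    obtain ⟨g, hg', hgimg⟩ := tableQ.sound k (by omega)
    refine ⟨⟨g, hg'⟩, ?_⟩
    rw [hf, tableQ.index_eq (by omega) hgimg, List.getD_eq_getElem _ _ hk, hkx]
    exact Units.ext ((glOf_val hdet).trans hxM)
  refine ⟨f, hsurj, ?_⟩
  have h := Subgroup.card_mul_index f.ker
  rw [Subgroup.index_ker, MonoidHom.range_eq_top.mpr hsurj, Subgroup.card_top, card_gl_two_three,
    tableQ.card, hlen] at h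
  omega

end CfsgLib.GolayTables
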