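import Cfsg.Agent.Lib.GolayTables.Quartets

/-!
# The orbit check on quartets
-/

set_option autoImplicit false
set_option Elab.async false
set_option maxRecDepth 20000

namespace CfsgLib.GolayTables

open Cfsg CfsgLib.Golay
open scoped Pointwise

/-- The quartet of a mask list. -/
def decQ (M : List ℕ) : Finset (Finset GolayPt) := (M.map decS).toFinset

/-- The sum of squares of the masks. -/
def sqKey (X : Finset (Finset GolayPt)) : ℕ := X.sum fun t => encS t * encS t

/-- The sum of squares, on lists. -/
def sqKeyList (M : List ℕ) : ℕ := (M.map fun m => Nat.mul m m).foldr Nat.add 0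

/-- A mask list is a quartet on the base dodecad. -/
def quartOK (M : List ℕ) : Bool :=
  Nat.beq M.length 4 && M.all fun m => Nat.beq (popc m) 3 && Nat.beq (Nat.land m 11472927) m &&
    M.all fun n => Nat.beq m n || hexMasks.contains (Nat.lor m n)

theorem lt_of_land_base {m : ℕ} (h : Nat.land m 11472927 = m) : m < 2 ^ 24 := by
  rw [← h]; exact lt_of_le_of_lt Nat.and_le_right (by norm_num)

theorem quartOK_spec {M : List ℕ} (h : quartOK M = true) (hn : distinctOK M = true) :
    decQ M ∈ quartets baseDodecad ∧ sqKey (decQ M) = sqKeyList M := by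
  simp only [quartOK, Bool.and_eq_true, List.all_eq_true, Bool.or_eq_true, List.contains_iff_mem] at h
  obtain ⟨hlen, h⟩ := h
  have hlt : ∀ m ∈ M, m < 2 ^ 24 := fun m hm => lt_of_land_base (Nat.eq_of_beq_eq_true (h m hm).1.2)
  have hnd : (M.map decS).Nodup := by
    refine List.Nodup.map_on (fun x hx y hy e => ?_) (nodup_of_distinctOK M hn)
    rw [← encS_decS (hlt x hx), e, encS_decS (hlt y hy)]
  refine ⟨⟨?_, fun t ht => ?_, fun t ht u hu htu => mem_hexadsOn_base.mpr ?_⟩, ?_⟩
  · rw [decQ, List.toFinset_card_of_nodup hnd, List.length_map, Nat.eq_of_beq_eq_true hlen]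
  · obtain ⟨m, hm, rfl⟩ := List.mem_map.mp (List.mem_toFinset.mp ht)
    refine ⟨?_, Finset.inter_eq_left.mp (encS_injective ?_)⟩
    · rw [← popc_encS, encS_decS (hlt m hm)]
      exact Nat.eq_of_beq_eq_true (h m hm).1.1
    · rw [encS_inter_base, encS_decS (hlt m hm)]
      exact Nat.eq_of_beq_eq_true (h m hm).1.2
  · obtain ⟨m, hm, rfl⟩ := List.mem_map.mp (List.mem_toFinset.mp ht)
    obtain ⟨n, hn', rfl⟩ := List.mem_map.mp (List.mem_toFinset.mp hu)
    rw [encS_union', encS_decS (hlt m hm), encS_decS (hlt n hn')]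
    exact ((h m hm).2 n hn').resolve_left fun e => htu (Nat.eq_of_beq_eq_true e ▸ rfl)
  · rw [sqKey, decQ, List.sum_toFinset _ hnd, List.map_map, sqKeyList]
    have e : M.map ((fun t => encS t * encS t) ∘ decS) = M.map fun m => Nat.mul m m :=
      List.map_congr_left fun m hm => by
        show encS (decS m) * encS (decS m) = m * m
        rw [encS_decS (hlt m hm)]
    rw [e]
    rfl

/-- The orbit check: valid quartets, closed under the table, every member reached. -/
def orbitOK (O : List (List ℕ)) (cert wit : List ℕ) : Bool :=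
  Nat.blt 0 O.length &&
    (O.all (fun M => quartOK M && distinctOK M) &&
      ((List.range 432).all (fun k => Nat.blt (cert.getD k 0) O.length &&
          (O.getD 0 []).all fun m => (O.getD (cert.getD k 0) []).contains (pmap (elt eltsQ k) m)) &&
        (List.range O.length).all fun j => Nat.blt (wit.getD j 0) 432 &&
          Nat.beq (cert.getD (wit.getD j 0) 0) j))

theorem orbit_eq_of_check {O : List (List ℕ)} {cert wit : List ℕ} (h : orbitOK O cert wit = true) :
    decQ (O.getD 0 []) ∈ quartets baseDodecad ∧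
      (∀ M ∈ O, decQ M ∈ quartets baseDodecad ∧ sqKey (decQ M) = sqKeyList M) ∧
      MulAction.orbit quartetGroup (decQ (O.getD 0 [])) = decQ '' {M | M ∈ O} := by
  simp only [orbitOK, Bool.and_eq_true, List.all_eq_true, List.mem_range] at h
  obtain ⟨hpos, hq, hc, hw⟩ := h
  have hpos' : 0 < O.length := Nat.le_of_ble_eq_true hpos
  have hmem : ∀ j < O.length, O.getD j [] ∈ O := fun j hj => by
    rw [List.getD_eq_getElem _ _ hj]; exact List.getElem_mem _
  have hspec : ∀ M ∈ O, decQ M ∈ quartets baseDodecad ∧ sqKey (decQ M) = sqKeyList M := fun M hM =>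
    quartOK_spec (hq M hM).1 (hq M hM).2
  have hlen : eltsQ.length = 432 := by decide +kernel
  have himg : ∀ (k : ℕ), k < 432 → ∀ g : M24, img g = elt eltsQ k →
      g • decQ (O.getD 0 []) = decQ (O.getD (cert.getD k 0) []) := by
    intro k hk g hg
    obtain ⟨hj, hsub⟩ := hc k hk
    have hj' := Nat.le_of_ble_eq_true hj
    refine Finset.eq_of_subset_of_card_le ?_ ?_
    · intro t ht
      obtain ⟨u, hu, rfl⟩ := Finset.mem_smul_finset.mp ht
      obtain ⟨m, hm, rfl⟩ := List.mem_map.mp (List.mem_toFinset.mp hu)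
      have hok := (hq _ (hmem 0 hpos')).1
      simp only [quartOK, Bool.and_eq_true, List.all_eq_true] at hok
      refine List.mem_toFinset.mpr (List.mem_map.mpr ⟨_, List.contains_iff_mem.mp (hsub m hm), ?_⟩)
      rw [← hg]
      exact (smul_decS _ (lt_of_land_base (Nat.eq_of_beq_eq_true (hok.2 m hm).1.2))).symm
    · rw [Finset.card_smul_finset, (hspec _ (hmem 0 hpos')).1.1, (hspec _ (hmem _ hj')).1.1]
  refine ⟨(hspec _ (hmem 0 hpos')).1, hspec, Set.ext fun X => ⟨?_, ?_⟩⟩
  · rintro ⟨⟨g, hg⟩, rfl⟩
    obtain ⟨k, hk, hgk⟩ := tableQ.exists_index hg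
    rw [hlen] at hk
    exact ⟨_, hmem _ (Nat.le_of_ble_eq_true (hc k hk).1), (himg k hk g hgk).symm⟩
  · rintro ⟨M, hM, rfl⟩
    obtain ⟨j, hj, rfl⟩ := List.getElem_of_mem hM
    obtain ⟨hw1, hw2⟩ := hw j hj
    obtain ⟨g, hg, hgk⟩ := tableQ.sound _ (hlen.symm ▸ Nat.le_of_ble_eq_true hw1)
    refine ⟨⟨g, hg⟩, ?_⟩
    show g • decQ (O.getD 0 []) = _
    rw [himg _ (Nat.le_of_ble_eq_true hw1) g hgk, Nat.eq_of_beq_eq_true hw2, List.getD_eq_getElem _ _ hj]

/-- The certificate test on a block of table indices. -/
def certBlock (O : List (List ℕ)) (cert : List ℕ) (lo : ℕ) : Bool :=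
  (List.range' lo 108).all fun k => Nat.blt (cert.getD k 0) O.length &&
    (O.getD 0 []).all fun m => (O.getD (cert.getD k 0) []).contains (pmap (elt eltsQ k) m)

/-- The test apart from the certificate. -/
def orbitRest (O : List (List ℕ)) (cert wit : List ℕ) : Bool :=
  Nat.blt 0 O.length && (O.all (fun M => quartOK M && distinctOK M) &&
    (List.range O.length).all fun j => Nat.blt (wit.getD j 0) 432 &&
      Nat.beq (cert.getD (wit.getD j 0) 0) j)

theorem range_432 : List.range 432 =
    List.range' 0 108 ++ (List.range' 108 108 ++ (List.range' 216 108 ++ List.range' 324 108)) := by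
  decide +kernel

theorem orbitOK_of_blocks {O : List (List ℕ)} {cert wit : List ℕ} (hr : orbitRest O cert wit = true)
    (h0 : certBlock O cert 0 = true) (h1 : certBlock O cert 108 = true) (h2 : certBlock O cert 216 = true)
    (h3 : certBlock O cert 324 = true) : orbitOK O cert wit = true := by
  simp only [orbitRest, Bool.and_eq_true] at hr
  simp only [certBlock] at h0 h1 h2 h3
  rw [orbitOK, hr.1, hr.2.1, hr.2.2, range_432, List.all_append, List.all_append, List.all_append, h0, h1, h2, h3]
  rfl

theorem orbitOneRest : orbitRest orb1 orbCert1 orbWit1 = true := by decide +kernel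
theorem orbitOneBlock0 : certBlock orb1 orbCert1 0 = true := by decide +kernel
theorem orbitOneBlock108 : certBlock orb1 orbCert1 108 = true := by decide +kernel
theorem orbitOneBlock216 : certBlock orb1 orbCert1 216 = true := by decide +kernel
theorem orbitOneBlock324 : certBlock orb1 orbCert1 324 = true := by decide +kernel
theorem orbitOne : orbitOK orb1 orbCert1 orbWit1 = true :=
  orbitOK_of_blocks orbitOneRest orbitOneBlock0 orbitOneBlock108 orbitOneBlock216 orbitOneBlock324

theorem orbitTwoRest : orbitRest orb2 orbCert2 orbWit2 = true := by decide +kernel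
theorem orbitTwoBlock0 : certBlock orb2 orbCert2 0 = true := by decide +kernel
theorem orbitTwoBlock108 : certBlock orb2 orbCert2 108 = true := by decide +kernel
theorem orbitTwoBlock216 : certBlock orb2 orbCert2 216 = true := by decide +kernel
theorem orbitTwoBlock324 : certBlock orb2 orbCert2 324 = true := by decide +kernel
theorem orbitTwo : orbitOK orb2 orbCert2 orbWit2 = true :=
  orbitOK_of_blocks orbitTwoRest orbitTwoBlock0 orbitTwoBlock108 orbitTwoBlock216 orbitTwoBlock324

end CfsgLib.GolayTables
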