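import Cfsg.Agent.Lib.GolayTables.QuartetOrbitCheck

/-!
# Orbits of a quartet stabiliser on quartets
-/

set_option autoImplicit false
set_option Elab.async false
set_option maxRecDepth 20000

namespace CfsgLib.GolayTables

open Cfsg CfsgLib.Golay
open scoped Pointwise

theorem orbitThreeRest : orbitRest orb3 orbCert3 orbWit3 = true := by decide +kernel
theorem orbitThreeBlock0 : certBlock orb3 orbCert3 0 = true := by decide +kernel
theorem orbitThreeBlock108 : certBlock orb3 orbCert3 108 = true := by decide +kernel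
theorem orbitThreeBlock216 : certBlock orb3 orbCert3 216 = true := by decide +kernel
theorem orbitThreeBlock324 : certBlock orb3 orbCert3 324 = true := by decide +kernel
theorem orbitThree : orbitOK orb3 orbCert3 orbWit3 = true :=
  orbitOK_of_blocks orbitThreeRest orbitThreeBlock0 orbitThreeBlock108 orbitThreeBlock216 orbitThreeBlock324
theorem orbitFourRest : orbitRest orb4 orbCert4 orbWit4 = true := by decide +kernel
theorem orbitFourBlock0 : certBlock orb4 orbCert4 0 = true := by decide +kernel
theorem orbitFourBlock108 : certBlock orb4 orbCert4 108 = true := by decide +kernel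
theorem orbitFourBlock216 : certBlock orb4 orbCert4 216 = true := by decide +kernel
theorem orbitFourBlock324 : certBlock orb4 orbCert4 324 = true := by decide +kernel
theorem orbitFour : orbitOK orb4 orbCert4 orbWit4 = true :=
  orbitOK_of_blocks orbitFourRest orbitFourBlock0 orbitFourBlock108 orbitFourBlock216 orbitFourBlock324

theorem allKeys :
    distinctOK ((quartMasks :: (orb1 ++ orb2 ++ orb3 ++ orb4)).map sqKeyList) = true ∧
      orb1.length = 12 ∧ orb2.length = 27 ∧ orb3.length = 72 ∧ orb4.length = 108 ∧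
      quartOK quartMasks = true ∧ distinctOK quartMasks = true := by
  decide +kernel

theorem base_orbits : ∃ X₁ ∈ quartets baseDodecad, ∃ X₂ ∈ quartets baseDodecad, ∃ X₃ ∈ quartets baseDodecad,
    ∃ X₄ ∈ quartets baseDodecad,
    (MulAction.orbit quartetGroup X₁).ncard = 12 ∧ (MulAction.orbit quartetGroup X₂).ncard = 27 ∧
    (MulAction.orbit quartetGroup X₃).ncard = 72 ∧ (MulAction.orbit quartetGroup X₄).ncard = 108 ∧
    quartets baseDodecad = {baseQuartet} ∪ MulAction.orbit quartetGroup X₁ ∪ MulAction.orbit quartetGroup X₂ ∪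
      MulAction.orbit quartetGroup X₃ ∪ MulAction.orbit quartetGroup X₄ := by
  obtain ⟨q1, s1, e1⟩ := orbit_eq_of_check orbitOne
  obtain ⟨q2, s2, e2⟩ := orbit_eq_of_check orbitTwo
  obtain ⟨q3, s3, e3⟩ := orbit_eq_of_check orbitThree
  obtain ⟨q4, s4, e4⟩ := orbit_eq_of_check orbitFour
  obtain ⟨hk, l1, l2, l3, l4, hq, hd⟩ := allKeys
  have hk' := nodup_of_distinctOK _ hk
  set A := quartMasks :: (orb1 ++ orb2 ++ orb3 ++ orb4) with hA
  have hs : ∀ M ∈ A, decQ M ∈ quartets baseDodecad ∧ sqKey (decQ M) = sqKeyList M := by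
    intro M hM
    simp only [hA, List.mem_cons, List.mem_append] at hM
    rcases hM with rfl | ((h | h) | h) | h
    exacts [quartOK_spec hq hd, s1 M h, s2 M h, s3 M h, s4 M h]
  have hinj : Set.InjOn decQ {M | M ∈ A} := fun M hM N hN e =>
    List.inj_on_of_nodup_map hk' hM hN (by rw [← (hs M hM).2, ← (hs N hN).2, e])
  have hAn : A.Nodup := List.Nodup.of_map _ hk'
  have hcard : ∀ O : List (List ℕ), O.Sublist A → (decQ '' {M | M ∈ O}).ncard = O.length := by
    intro O hO
    rw [show {M | M ∈ O} = (O.toFinset : Set (List ℕ)) by ext M; simp,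
      Set.InjOn.ncard_image (hinj.mono fun M hM => by
        rw [Finset.mem_coe, List.mem_toFinset] at hM
        exact hO.subset hM),
      Set.ncard_coe_finset, List.toFinset_card_of_nodup (hO.nodup hAn)]
  have hS : ∀ {P Q R : List (List ℕ)}, P.Sublist Q → P.Sublist (Q ++ R) := fun h =>
    h.trans (List.sublist_append_left _ _)
  refine ⟨_, q1, _, q2, _, q3, _, q4, ?_, ?_, ?_, ?_, ?_⟩
  · rw [e1, hcard _ (List.Sublist.cons _ (hS (hS (List.sublist_append_left _ _)))), l1]
  · rw [e2, hcard _ (List.Sublist.cons _ (hS (hS (List.sublist_append_right _ _)))), l2]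
  · rw [e3, hcard _ (List.Sublist.cons _ (hS (List.sublist_append_right _ _))), l3]
  · rw [e4, hcard _ (List.Sublist.cons _ (List.sublist_append_right _ _)), l4]
  · rw [e1, e2, e3, e4, show baseQuartet = decQ quartMasks from rfl, ← Set.image_singleton, ← Set.image_union,
      ← Set.image_union, ← Set.image_union, ← Set.image_union]
    have hA' : ({quartMasks} : Set (List ℕ)) ∪ {M | M ∈ orb1} ∪ {M | M ∈ orb2} ∪ {M | M ∈ orb3} ∪
        {M | M ∈ orb4} = {M | M ∈ A} := by
      ext M
      simp [hA, or_assoc]
    rw [hA']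
    refine (Set.eq_of_subset_of_ncard_le ?_ ?_ (Set.toFinite _)).symm
    · rintro X ⟨M, hM, rfl⟩
      exact (hs M hM).1
    · rw [hcard A (List.Sublist.refl _), ncard_quartets_base, hA]
      simp [l1, l2, l3, l4]

end CfsgLib.GolayTables
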