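import Cfsg.Agent.Lib.GolayTables.Engine
import Cfsg.Agent.Lib.GolayTables.Data

/-!
# Five reference subgroups of a dodecad stabiliser
-/

set_option autoImplicit false

namespace CfsgLib.GolayTables

open Cfsg CfsgLib.Golay
open scoped Pointwise

/-- The reference points of the dodecad. -/
def bp (k : ℕ) : GolayPt := basePts.getD k none

/-- Two points outside. -/
def outA : GolayPt := some 5
/-- Two points outside. -/
def outB : GolayPt := some 6

/-- The points of the dodecad. -/
def dodPts : List GolayPt :=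
  ((List.range 24).filter fun i => (11472927 : ℕ).testBit i).map fun i : ℕ =>
    if i < 23 then some ((i : ℕ) : ZMod 23) else none

theorem mem_dodPts : ∀ p : GolayPt, p ∈ dodPts ↔ p ∈ baseDodecad := by
  unfold baseDodecad; decide +kernel

theorem dod_facts : (∀ k < 5, bp k ∈ baseDodecad) ∧ outA ∉ baseDodecad ∧ outB ∉ baseDodecad ∧
    outA ≠ outB ∧ [bp 0, bp 1, bp 2, bp 3, bp 4].Nodup := by
  unfold baseDodecad; decide +kernel

/-- The test that a list fixes a point. -/
def fixPt (p : GolayPt) (l : List ℕ) : Bool := Nat.beq (l.getD (idx p).val 0) (idx p).val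

theorem fixPt_spec {p : GolayPt} {g : M24} (h : fixPt p (img g) = true) : g • p = p := by
  have h' := Nat.eq_of_beq_eq_true h
  rw [img, toList_getD] at h'
  exact idx_injective (Fin.ext h')

/-- The test that a list fixes the dodecad. -/
def fixDod (l : List ℕ) : Bool := Nat.beq (pmap l 11472927) 11472927

theorem fixDod_spec {g : M24} (h : fixDod (img g) = true) : g • baseDodecad = baseDodecad := by
  refine encS_injective ?_
  show encS ((g : Equiv.Perm GolayPt) • baseDodecad) = _
  rw [encS_smul, baseDodecad, encS_decS (by norm_num)]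
  exact Nat.eq_of_beq_eq_true h

theorem five_le {H : Subgroup M24} (hH : ∀ g ∈ H, g • baseDodecad = baseDodecad) (A : List (List GolayPt))
    (hA : ∀ g : M24, g ∈ H → [(g : Equiv.Perm GolayPt) (bp 0), (g : Equiv.Perm GolayPt) (bp 1),
      (g : Equiv.Perm GolayPt) (bp 2), (g : Equiv.Perm GolayPt) (bp 3), (g : Equiv.Perm GolayPt) (bp 4)] ∈ A) :
    Nat.card H ≤ A.length := by
  obtain ⟨h1, -, -, -, hn⟩ := dod_facts
  refine card_le_of_tuples baseDodecad_mem hH hn rfl ?_ A (fun g hg => hA g hg)
  simp only [List.mem_cons, List.not_mem_nil, or_false]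
  rintro p (rfl | rfl | rfl | rfl | rfl) <;> exact h1 _ (by norm_num)

theorem smul_mem_dod {g : M24} (hg : g • baseDodecad = baseDodecad) {p : GolayPt} (hp : p ∈ baseDodecad) :
    (g : Equiv.Perm GolayPt) p ∈ baseDodecad :=
  (apply_mem_iff_of_smul_eq (σ := (g : Equiv.Perm GolayPt)) hg p).mpr hp

/-! ### The quartet -/

/-- The reference quartet. -/
def baseQuartet : Finset (Finset GolayPt) := (quartMasks.map decS).toFinset

/-- The stabiliser of the reference quartet. -/
def quartetGroup : Subgroup M24 := MulAction.stabilizer M24 baseDodecad ⊓ MulAction.stabilizer M24 baseQuartet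

/-- The test for the quartet. -/
def fixQuartet (l : List ℕ) : Bool :=
  fixDod l && quartMasks.all fun m => quartMasks.contains (pmap l m)

theorem quartMasks_lt : ∀ m ∈ quartMasks, m < 2 ^ 24 := by decide +kernel

theorem mem_quartetGroup_of_fix (g : M24) (h : fixQuartet (img g) = true) : g ∈ quartetGroup := by
  simp only [fixQuartet, Bool.and_eq_true, List.all_eq_true, List.contains_iff_mem] at h
  refine ⟨fixDod_spec h.1, ?_⟩
  refine MulAction.mem_stabilizer_iff.mpr (Finset.eq_of_subset_of_card_le ?_ ?_)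
  · intro t ht
    obtain ⟨u, hu, rfl⟩ := Finset.mem_smul_finset.mp ht
    rw [baseQuartet, List.mem_toFinset, List.mem_map] at hu ⊢
    obtain ⟨m, hm, rfl⟩ := hu
    exact ⟨_, h.2 m hm, (smul_decS _ (quartMasks_lt m hm)).symm⟩
  · rw [Finset.card_smul_finset]

/-- Two points in one triple of the quartet. -/
def sameT (a b : GolayPt) : Bool := decide (∃ t ∈ baseQuartet, a ∈ t ∧ b ∈ t)

theorem sameT_smul {g : M24} (hg : g • baseQuartet = baseQuartet) (a b : GolayPt) :
    sameT ((g : Equiv.Perm GolayPt) a) ((g : Equiv.Perm GolayPt) b) = sameT a b := by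
  simp only [sameT, decide_eq_decide]
  constructor
  · rintro ⟨t, ht, h1, h2⟩
    rw [← hg] at ht
    obtain ⟨u, hu, rfl⟩ := Finset.mem_smul_finset.mp ht
    exact ⟨u, hu, (Finset.smul_mem_smul_finset_iff (a := (g : Equiv.Perm GolayPt))).mp h1,
      (Finset.smul_mem_smul_finset_iff (a := (g : Equiv.Perm GolayPt))).mp h2⟩
  · rintro ⟨t, ht, h1, h2⟩
    exact ⟨g • t, hg ▸ Finset.smul_mem_smul_finset ht,
      Finset.smul_mem_smul_finset (a := (g : Equiv.Perm GolayPt)) h1,
      Finset.smul_mem_smul_finset (a := (g : Equiv.Perm GolayPt)) h2⟩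

/-- The five-tuples laid out like the first five base points. -/
def quartetTuples : List (List GolayPt) :=
  dodPts.flatMap fun a => (dodPts.filter fun b => decide (b ≠ a) && sameT a b).flatMap fun b =>
    (dodPts.filter fun c => decide (c ≠ a) && decide (c ≠ b) && sameT a c).flatMap fun c =>
      (dodPts.filter fun x => !sameT a x).flatMap fun x =>
        (dodPts.filter fun y => decide (y ≠ x) && sameT x y).map fun y => [a, b, c, x, y]

theorem length_quartetTuples : quartetTuples.length = 432 := by decide +kernel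

theorem quartet_layout : sameT (bp 0) (bp 1) = true ∧ sameT (bp 0) (bp 2) = true ∧
    sameT (bp 0) (bp 3) = false ∧ sameT (bp 3) (bp 4) = true := by decide +kernel

theorem natCard_quartetGroup_le : Nat.card quartetGroup ≤ 432 := by
  rw [← length_quartetTuples]
  refine five_le (H := quartetGroup) (fun g hg => hg.1) _ fun g hg => ?_
  obtain ⟨h1, -, -, -, hn⟩ := dod_facts
  obtain ⟨e1, e2, e3, e4⟩ := quartet_layout
  simp only [List.nodup_cons, List.mem_cons, List.not_mem_nil, or_false, not_or] at hn
  obtain ⟨⟨n01, n02, -, -⟩, ⟨n12, -, -⟩, -, n34, -⟩ := hn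
  simp only [quartetTuples, List.mem_flatMap, List.mem_map, List.mem_filter, Bool.and_eq_true,
    decide_eq_true_eq, Bool.not_eq_true']
  have hm : ∀ k < 5, (g : Equiv.Perm GolayPt) (bp k) ∈ dodPts := fun k hk =>
    (mem_dodPts _).mpr (smul_mem_dod hg.1 (h1 k hk))
  have hne : ∀ {a b : GolayPt}, a ≠ b → (g : Equiv.Perm GolayPt) b ≠ (g : Equiv.Perm GolayPt) a :=
    fun h e => h ((g : Equiv.Perm GolayPt).injective e).symm
  have hs := sameT_smul (show g • baseQuartet = baseQuartet from hg.2)
  refine ⟨_, hm 0 (by norm_num), _, ⟨hm 1 (by norm_num), hne n01, (hs _ _).trans e1⟩, _,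
    ⟨hm 2 (by norm_num), ⟨hne n02, hne n12⟩, (hs _ _).trans e2⟩, _,
    ⟨hm 3 (by norm_num), (hs _ _).trans e3⟩, _, ⟨hm 4 (by norm_num), hne n34, (hs _ _).trans e4⟩, rfl⟩

/-! ### Three points -/

/-- The stabiliser of three points of the dodecad. -/
def threeGroup : Subgroup M24 :=
  MulAction.stabilizer M24 baseDodecad ⊓ MulAction.stabilizer M24 (bp 0) ⊓ MulAction.stabilizer M24 (bp 1) ⊓
    MulAction.stabilizer M24 (bp 2)

/-- The test for three points. -/
def fixThree (l : List ℕ) : Bool := fixDod l && fixPt (bp 0) l && fixPt (bp 1) l && fixPt (bp 2) l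

theorem mem_threeGroup_of_fix (g : M24) (h : fixThree (img g) = true) : g ∈ threeGroup := by
  simp only [fixThree, Bool.and_eq_true] at h
  exact ⟨⟨⟨fixDod_spec h.1.1.1, fixPt_spec h.1.1.2⟩, fixPt_spec h.1.2⟩, fixPt_spec h.2⟩

/-- Five-tuples extending the three points. -/
def threeTuples : List (List GolayPt) :=
  (dodPts.filter fun x => decide (x ≠ bp 0) && decide (x ≠ bp 1) && decide (x ≠ bp 2)).flatMap fun x =>
    (dodPts.filter fun y =>
      decide (y ≠ bp 0) && decide (y ≠ bp 1) && decide (y ≠ bp 2) && decide (y ≠ x)).map fun y =>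
        [bp 0, bp 1, bp 2, x, y]

theorem length_threeTuples : threeTuples.length = 72 := by decide +kernel

theorem natCard_threeGroup_le : Nat.card threeGroup ≤ 72 := by
  rw [← length_threeTuples]
  refine five_le (H := threeGroup) (fun g hg => hg.1.1.1) _ fun g hg => ?_
  obtain ⟨h1, -, -, -, hn⟩ := dod_facts
  simp only [List.nodup_cons, List.mem_cons, List.not_mem_nil, or_false, not_or] at hn
  obtain ⟨⟨-, -, n03, n04⟩, ⟨-, n13, n14⟩, ⟨n23, n24⟩, n34, -⟩ := hn
  have f0 : (g : Equiv.Perm GolayPt) (bp 0) = bp 0 := hg.1.1.2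
  have f1 : (g : Equiv.Perm GolayPt) (bp 1) = bp 1 := hg.1.2
  have f2 : (g : Equiv.Perm GolayPt) (bp 2) = bp 2 := hg.2
  have hne : ∀ {a b : GolayPt}, (g : Equiv.Perm GolayPt) a = a → a ≠ b → (g : Equiv.Perm GolayPt) b ≠ a :=
    fun ha h e => h ((g : Equiv.Perm GolayPt).injective (e.trans ha.symm)).symm
  rw [f0, f1, f2]
  simp only [threeTuples, List.mem_flatMap, List.mem_map, List.mem_filter, Bool.and_eq_true, decide_eq_true_eq]
  exact ⟨_, ⟨(mem_dodPts _).mpr (smul_mem_dod hg.1.1.1 (h1 3 (by norm_num))),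
    ⟨hne f0 n03, hne f1 n13⟩, hne f2 n23⟩, _, ⟨(mem_dodPts _).mpr (smul_mem_dod hg.1.1.1 (h1 4 (by norm_num))),
    ⟨⟨hne f0 n04, hne f1 n14⟩, hne f2 n24⟩, fun e => n34 ((g : Equiv.Perm GolayPt).injective e).symm⟩, rfl⟩

/-! ### A point inside and one or two outside -/

/-- The stabiliser of a point inside and a point outside. -/
def pointGroup : Subgroup M24 :=
  MulAction.stabilizer M24 baseDodecad ⊓ MulAction.stabilizer M24 (bp 0) ⊓ MulAction.stabilizer M24 outA

/-- The test for a point outside. -/
def fixPoint (l : List ℕ) : Bool := fixDod l && fixPt (bp 0) l && fixPt outA l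

theorem mem_pointGroup_of_fix (g : M24) (h : fixPoint (img g) = true) : g ∈ pointGroup := by
  simp only [fixPoint, Bool.and_eq_true] at h
  exact ⟨⟨fixDod_spec h.1.1, fixPt_spec h.1.2⟩, fixPt_spec h.2⟩

/-- The stabiliser of a point inside and a pair outside. -/
def duoGroup : Subgroup M24 :=
  MulAction.stabilizer M24 baseDodecad ⊓ MulAction.stabilizer M24 (bp 0) ⊓
    MulAction.stabilizer M24 ({outA, outB} : Finset GolayPt)

/-- The test for a pair outside. -/
def fixDuo (l : List ℕ) : Bool := fixDod l && fixPt (bp 0) l && Nat.beq (pmap l 96) 96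

theorem mem_duoGroup_of_fix (g : M24) (h : fixDuo (img g) = true) : g ∈ duoGroup := by
  simp only [fixDuo, Bool.and_eq_true] at h
  refine ⟨⟨fixDod_spec h.1.1, fixPt_spec h.1.2⟩, encS_injective ?_⟩
  have h96 : encS ({outA, outB} : Finset GolayPt) = 96 := by decide +kernel
  show encS ((g : Equiv.Perm GolayPt) • ({outA, outB} : Finset GolayPt)) = _
  rw [encS_smul, h96]
  exact Nat.eq_of_beq_eq_true h.2

theorem exists_outside_map {d : Finset GolayPt} (hd : d ∈ dodecads) {p : GolayPt} (hp : p ∈ d)
    {L L' : List GolayPt} (hL : L.Nodup) (hL' : L'.Nodup) (hlen : L.length = L'.length) (h3 : L.length ≤ 3)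
    (hLd : ∀ r ∈ L, r ∉ d) (hLd' : ∀ r ∈ L', r ∉ d) :
    ∃ g : M24, g • d = d ∧ g • p = p ∧ L.map (g : Equiv.Perm GolayPt) = L' := by
  classical
  have ext' : ∀ K : List GolayPt, K.Nodup → (∀ r ∈ K, r ∉ d) → K.length ≤ 3 →
      ∃ M : List GolayPt, (K ++ M).Nodup ∧ (K ++ M).length = 3 ∧ ∀ r ∈ K ++ M, r ∉ d := by
    intro K hK hKd hK3
    obtain ⟨M, hM1, hM2, hM3⟩ := exists_list_subset (n := 3 - K.length) (s := dᶜ \ K.toFinset) (by
      have := Finset.le_card_sdiff K.toFinset dᶜ
      rw [Finset.card_compl, card_golayPt, card_of_mem_dodecads hd, List.toFinset_card_of_nodup hK] at this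
      omega)
    refine ⟨M, List.nodup_append.mpr ⟨hK, hM1, fun a ha b hb e => ?_⟩, by simp [hM2]; omega,
      fun r hr => ?_⟩
    · subst e; exact (Finset.mem_sdiff.mp (hM3 a hb)).2 (List.mem_toFinset.mpr ha)
    · rcases List.mem_append.mp hr with h | h
      · exact hKd r h
      · exact Finset.mem_compl.mp (Finset.mem_sdiff.mp (hM3 r h)).1
  obtain ⟨M, a1, a2, a3⟩ := ext' L hL hLd h3
  obtain ⟨M', b1, b2, b3⟩ := ext' L' hL' hLd' (hlen ▸ h3)
  obtain ⟨g, ⟨⟨hg1, hg2⟩, hg3⟩, hmap⟩ := exists_dodPtStab_map hd hp a1 b1 a2 b2 a3 b3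
  refine ⟨⟨g, hg1⟩, hg2, hg3, ?_⟩
  show L.map g = L'
  have := congrArg (List.take L.length) hmap
  rwa [← List.map_take, List.take_left, List.take_left' hlen.symm] at this

/-- The stabiliser of a dodecad and a point inside it has order 7920. -/
theorem natCard_dodPoint {d : Finset GolayPt} (hd : d ∈ dodecads) {p : GolayPt} (hp : p ∈ d) :
    Nat.card ↥(MulAction.stabilizer M24 d ⊓ MulAction.stabilizer M24 p) = 7920 := by
  rw [Nat.card_congr (subtypeEquiv _).toEquiv, map_subtype_stabilizer_dodPt, natCard_dodPtStab hd hp]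

theorem card_inf_stabilizer {β : Type*} [MulAction M24 β] (K : Subgroup M24) (b : β) :
    (MulAction.orbit K b).ncard * Nat.card ↥(K ⊓ MulAction.stabilizer M24 b) = Nat.card K := by
  have hmap : (MulAction.stabilizer K b).map K.subtype = K ⊓ MulAction.stabilizer M24 b := by
    ext x
    simp only [Subgroup.mem_map, Subgroup.mem_inf, MulAction.mem_stabilizer_iff]
    constructor
    · rintro ⟨u, hu, rfl⟩
      exact ⟨u.2, hu⟩
    · rintro ⟨hx, hx'⟩
      exact ⟨⟨x, hx⟩, hx', rfl⟩
  rw [← hmap, ← Nat.card_congr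
    ((MulAction.stabilizer K b).equivMapOfInjective K.subtype K.subtype_injective).toEquiv,
    ← MulAction.index_stabilizer, Subgroup.index_mul_card]

theorem natCard_pointGroup : Nat.card pointGroup = 660 := by
  obtain ⟨h1, hA, -, -, -⟩ := dod_facts
  set K := MulAction.stabilizer M24 baseDodecad ⊓ MulAction.stabilizer M24 (bp 0)
  have horb : MulAction.orbit K outA = ((baseDodecadᶜ : Finset GolayPt) : Set GolayPt) := by
    ext t
    rw [Finset.mem_coe, Finset.mem_compl]
    constructor
    · rintro ⟨⟨g, hg⟩, rfl⟩ h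
      exact hA ((apply_mem_iff_of_smul_eq (σ := (g : Equiv.Perm GolayPt)) hg.1 outA).mp h)
    · intro ht
      obtain ⟨g, hg1, hg2, hg3⟩ := exists_outside_map baseDodecad_mem (h1 0 (by norm_num)) (L := [outA])
        (L' := [t]) (by simp) (by simp) rfl (by simp) (by simpa) (by simpa)
      exact ⟨⟨g, hg1, hg2⟩, List.head_eq_of_cons_eq hg3⟩
  have h := card_inf_stabilizer K outA
  rw [horb, Set.ncard_coe_finset, Finset.card_compl, card_golayPt, card_of_mem_dodecads baseDodecad_mem,
    natCard_dodPoint baseDodecad_mem (h1 0 (by norm_num))] at h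
  show Nat.card ↥(K ⊓ MulAction.stabilizer M24 outA) = 660
  omega

theorem natCard_duoGroup : Nat.card duoGroup = 120 := by
  obtain ⟨h1, hA, hB, hAB, -⟩ := dod_facts
  set K := MulAction.stabilizer M24 baseDodecad ⊓ MulAction.stabilizer M24 (bp 0)
  have horb : MulAction.orbit K ({outA, outB} : Finset GolayPt) =
      ((baseDodecadᶜ.powersetCard 2 : Finset (Finset GolayPt)) : Set (Finset GolayPt)) := by
    ext t
    rw [Finset.mem_coe, Finset.mem_powersetCard]
    constructor
    · rintro ⟨⟨g, hg⟩, rfl⟩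
      refine ⟨fun r hr => ?_, ?_⟩
      · obtain ⟨u, hu, rfl⟩ := Finset.mem_smul_finset.mp hr
        rw [Finset.mem_compl]
        intro h
        have := (apply_mem_iff_of_smul_eq (σ := (g : Equiv.Perm GolayPt)) hg.1 u).mp h
        simp only [Finset.mem_insert, Finset.mem_singleton] at hu
        rcases hu with rfl | rfl <;> contradiction
      · show ((g : Equiv.Perm GolayPt) • ({outA, outB} : Finset GolayPt)).card = 2
        rw [Finset.card_smul_finset, Finset.card_pair hAB]
    · rintro ⟨ht, ht2⟩
      obtain ⟨x, y, hxy, rfl⟩ := Finset.card_eq_two.mp ht2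
      simp only [Finset.insert_subset_iff, Finset.singleton_subset_iff, Finset.mem_compl] at ht
      obtain ⟨g, hg1, hg2, hg3⟩ := exists_outside_map baseDodecad_mem (h1 0 (by norm_num))
        (L := [outA, outB]) (L' := [x, y]) (by simp [hAB]) (by simp [hxy]) rfl (by simp)
        (by simp [hA, hB]) (by simp [ht.1, ht.2])
      simp only [List.map_cons, List.map_nil, List.cons.injEq, and_true] at hg3
      refine ⟨⟨g, hg1, hg2⟩, ?_⟩
      show (g : Equiv.Perm GolayPt) • ({outA, outB} : Finset GolayPt) = {x, y}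
      rw [Finset.smul_finset_insert, Finset.smul_finset_singleton, Equiv.Perm.smul_def, Equiv.Perm.smul_def,
        hg3.1, hg3.2]
  have h := card_inf_stabilizer K ({outA, outB} : Finset GolayPt)
  rw [horb, Set.ncard_coe_finset, Finset.card_powersetCard, Finset.card_compl, card_golayPt,
    card_of_mem_dodecads baseDodecad_mem, natCard_dodPoint baseDodecad_mem (h1 0 (by norm_num))] at h
  have h66 : Nat.choose (24 - 12) 2 = 66 := by decide
  show Nat.card ↥(K ⊓ MulAction.stabilizer M24 ({outA, outB} : Finset GolayPt)) = 120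
  rw [h66] at h
  omega

/-! ### An involution -/

theorem invList_ok : (genOK invList && fixDod invList && fixPt (bp 0) invList) = true := by decide +kernel

theorem exists_inv : ∃ g : M24, img g = invList := by
  have h := invList_ok
  simp only [Bool.and_eq_true] at h
  obtain ⟨σ, hσ, hl⟩ := exists_perm h.1.1
  exact ⟨⟨σ, hσ⟩, hl⟩

/-- The reference involution. -/
noncomputable def invElt : M24 := exists_inv.choose

theorem img_invElt : img invElt = invList := exists_inv.choose_spec

theorem invElt_mem : invElt ∈ MulAction.stabilizer M24 baseDodecad ⊓ MulAction.stabilizer M24 (bp 0) := by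
  have h := invList_ok
  simp only [Bool.and_eq_true] at h
  exact ⟨fixDod_spec (by rw [img_invElt]; exact h.1.2), fixPt_spec (by rw [img_invElt]; exact h.2)⟩

/-- The involution as a function. -/
def invFun' (p : GolayPt) : GolayPt :=
  if invList.getD (idx p).val 0 < 23 then some (invList.getD (idx p).val 0 : ZMod 23) else none

theorem invFun'_idx : ∀ p : GolayPt, (idx (invFun' p)).val = invList.getD (idx p).val 0 := by decide +kernel

theorem invElt_apply (p : GolayPt) : (invElt : Equiv.Perm GolayPt) p = invFun' p := by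
  refine idx_injective (Fin.ext ?_)
  rw [invFun'_idx, ← toList_getD, ← img_invElt]
  rfl

theorem invFun'_facts : invFun' (bp 1) = bp 2 ∧ invFun' (bp 3) = bp 4 ∧ invFun' (bp 2) = bp 1 ∧
    invFun' (bp 4) = bp 3 := by decide +kernel

/-- The centraliser of the reference involution in the stabiliser of the dodecad and the point. -/
noncomputable def centGroup : Subgroup M24 :=
  MulAction.stabilizer M24 baseDodecad ⊓ MulAction.stabilizer M24 (bp 0) ⊓ Subgroup.centralizer {invElt}

/-- The test for the centraliser. -/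
def fixCent (l : List ℕ) : Bool := fixDod l && fixPt (bp 0) l && (comp l invList == comp invList l)

theorem mem_centGroup_of_fix (g : M24) (h : fixCent (img g) = true) : g ∈ centGroup := by
  simp only [fixCent, Bool.and_eq_true, beq_iff_eq] at h
  refine ⟨⟨fixDod_spec h.1.1, fixPt_spec h.1.2⟩, Subgroup.mem_centralizer_iff.mpr fun u hu => ?_⟩
  rw [Set.mem_singleton_iff.mp hu]
  refine img_injective ?_
  rw [img_mul, img_mul, img_invElt, h.2]

/-- Five-tuples laid out like the base points under the involution. -/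
def centTuples : List (List GolayPt) :=
  (dodPts.filter fun a => decide (invFun' a ≠ a)).flatMap fun a =>
    (dodPts.filter fun c => decide (invFun' c ≠ c) && decide (c ≠ a) && decide (c ≠ invFun' a)).map fun c =>
      [bp 0, a, invFun' a, c, invFun' c]

theorem length_centTuples : centTuples.length = 48 := by decide +kernel

theorem natCard_centGroup_le : Nat.card centGroup ≤ 48 := by
  rw [← length_centTuples]
  refine five_le (H := centGroup) (fun g hg => hg.1.1) _ fun g hg => ?_
  obtain ⟨h1, -, -, -, hn⟩ := dod_facts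
  simp only [List.nodup_cons, List.mem_cons, List.not_mem_nil, or_false, not_or] at hn
  obtain ⟨-, ⟨n12, n13, -⟩, ⟨n23, -⟩, n34, -⟩ := hn
  obtain ⟨e1, e3, -, -⟩ := invFun'_facts
  have f0 : (g : Equiv.Perm GolayPt) (bp 0) = bp 0 := hg.1.2
  have hc : ∀ p, (g : Equiv.Perm GolayPt) (invFun' p) = invFun' ((g : Equiv.Perm GolayPt) p) := by
    intro p
    have h := Subgroup.mem_centralizer_iff.mp hg.2 invElt (Set.mem_singleton _)
    rw [← invElt_apply, ← invElt_apply]
    exact congrArg (fun u : M24 => (u : Equiv.Perm GolayPt) p) h.symm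
  have g2 : (g : Equiv.Perm GolayPt) (bp 2) = invFun' ((g : Equiv.Perm GolayPt) (bp 1)) := by rw [← hc, e1]
  have g4 : (g : Equiv.Perm GolayPt) (bp 4) = invFun' ((g : Equiv.Perm GolayPt) (bp 3)) := by rw [← hc, e3]
  have hinj := (g : Equiv.Perm GolayPt).injective
  rw [f0, g2, g4]
  simp only [centTuples, List.mem_flatMap, List.mem_map, List.mem_filter, Bool.and_eq_true, decide_eq_true_eq]
  refine ⟨_, ⟨(mem_dodPts _).mpr (smul_mem_dod hg.1.1 (h1 1 (by norm_num))), fun e => n12 ?_⟩, _,
    ⟨(mem_dodPts _).mpr (smul_mem_dod hg.1.1 (h1 3 (by norm_num))),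
      ⟨fun e => n34 ?_, fun e => n13 ?_⟩, fun e => n23 ?_⟩, rfl⟩
  · exact hinj (g2.trans e).symm
  · exact hinj (g4.trans e).symm
  · exact hinj e.symm
  · exact hinj (e.trans g2.symm).symm

end CfsgLib.GolayTables
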